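import Groth.Agent.H11LefFEt.Punctured
import Groth.Agent.H18PBC.PairEquiv
import Groth.Agent.H18Et.FEtLimit
import Groth.Agent.H18Pur.Complete.Purity
import Groth.Agent.H9Hens.PairOps
import Mathlib.RingTheory.AdicCompletion.LocalRing

/-!
# Extension of a cover of the punctured spectrum from the hypersurface
-/

set_option autoImplicit false
set_option linter.style.haveILetI false
set_option backward.isDefEq.respectTransparency false

universe u

open CategoryTheory CategoryTheory.Limits AlgebraicGeometry Opposite TopologicalSpace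

namespace Groth.Agent.H11LefFEt.Ext

open H18Et.FEtLimit

/-- A cover of the punctured spectrum extends if it does on the hypersurface. -/
theorem exists_extension (A : Type u) [CommRing A] [IsNoetherianRing A] [IsLocalRing A] (f : A)
    (hf : f ∈ IsLocalRing.maximalIdeal A)
    (h₁ : ∃ n : ℕ, ∀ x : LocCoh.H (IsLocalRing.maximalIdeal A) 1 A, f ^ n • x = 0)
    (h₂ : ∃ n : ℕ, ∀ x : LocCoh.H (IsLocalRing.maximalIdeal A) 2 A, f ^ n • x = 0)
    (V : FEt.Cat (FEt.puncturedSpec A : Scheme.{u}))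
    (hV : ∃ Y₀ : FEt.Cat (Spec (CommRingCat.of (A ⧸ Ideal.span {f}))),
      Nonempty ((FEt.restrict (pullback.snd (FEt.puncturedSpec A).ι (Spec.map (CommRingCat.ofHom (Ideal.Quotient.mk (Ideal.span {f})))))).obj Y₀ ≅ (FEt.restrict (pullback.fst (FEt.puncturedSpec A).ι (Spec.map (CommRingCat.ofHom (Ideal.Quotient.mk (Ideal.span {f})))))).obj V)) :
    ∃ Y : FEt.Cat (Spec (CommRingCat.of A)), Nonempty ((FEt.restrict (FEt.puncturedSpec A).ι).obj Y ≅ V) := by
  obtain ⟨Y₀, ⟨e⟩⟩ := hV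
  let m := IsLocalRing.maximalIdeal A
  let A' := AdicCompletion m A
  haveI : IsNoetherianRing A' := H05EGA4.isNoetherianRing_adicCompletion A _
  haveI : Module.Flat A A' := AdicCompletion.flat_of_isNoetherian _
  have hm : m.map (algebraMap A A') = IsLocalRing.maximalIdeal A' :=
    (AdicCompletion.maximalIdeal_eq_map (R := A)).symm
  haveI : IsAdicComplete (IsLocalRing.maximalIdeal A') A' :=
    hm ▸ H05EGA4.FiniteSemilocalCompletion.isAdicComplete_completion m
  let f' : A' := algebraMap A A' f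
  have hf' : f' ∈ IsLocalRing.maximalIdeal A' := hm ▸ Ideal.mem_map_of_mem _ hf
  haveI : HenselianRing A' (Ideal.span {f'}) :=
    H9Hens.henselianRing_of_le (J := IsLocalRing.maximalIdeal A') ((Ideal.span_singleton_le_iff_mem _).2 hf')
  have hkill : ∀ i, (∃ n : ℕ, ∀ x : LocCoh.H m i A, f ^ n • x = 0) →
      ∃ n : ℕ, ∀ x : LocCoh.H (IsLocalRing.maximalIdeal A') i A', f' ^ n • x = 0 := fun i ⟨n, hn⟩ =>
    ⟨n, by rw [← hm, ← map_pow]; exact Completion.H_killed A' _ i _ hn⟩
  obtain ⟨hfull, hfaith⟩ := Punct.full_faithful A' f' hf' (hkill 1 h₁) (hkill 2 h₂)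
  let ι := (FEt.puncturedSpec A).ι
  let ι' := (FEt.puncturedSpec A').ι
  let s := Spec.map (CommRingCat.ofHom (algebraMap A A'))
  let q := Spec.map (CommRingCat.ofHom (Ideal.Quotient.mk (Ideal.span {f})))
  let q' := Spec.map (CommRingCat.ofHom (Ideal.Quotient.mk (Ideal.span {f'})))
  let σ : Spec (CommRingCat.of (A' ⧸ Ideal.span {f'})) ⟶ Spec (CommRingCat.of (A ⧸ Ideal.span {f})) :=
    Spec.map (CommRingCat.ofHom (Ideal.quotientMap (Ideal.span {f'}) (algebraMap A A') (by
      rw [Ideal.span_singleton_le_iff_mem, Ideal.mem_comap]; exact Ideal.mem_span_singleton_self _)))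
  have hσ : σ ≫ q = q' ≫ s := by
    rw [← Spec.map_comp, ← Spec.map_comp]; rfl
  -- the punctured spectra correspond
  have hU : s ⁻¹ᵁ FEt.puncturedSpec A = FEt.puncturedSpec A' := by
    refine Opens.ext (Set.ext fun p => not_congr ?_)
    simp only [Set.mem_singleton_iff]
    refine ⟨fun h => PrimeSpectrum.ext ?_, fun h => ?_⟩
    · refine ((IsLocalRing.maximalIdeal.isMaximal A').eq_of_le p.isPrime.ne_top ?_).symm
      rw [← hm, Ideal.map_le_iff_le_comap]
      exact (congrArg PrimeSpectrum.asIdeal h).ge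
    · subst h
      haveI : IsLocalHom (algebraMap A A') := inferInstance
      exact IsLocalRing.comap_closedPoint (algebraMap A A')
  have hr : Set.range (ι' ≫ s) ⊆ Set.range ι := by
    rintro _ ⟨x, rfl⟩
    rw [Scheme.Opens.range_ι]
    exact hU.ge x.2
  let κ : (FEt.puncturedSpec A' : Scheme.{u}) ⟶ (FEt.puncturedSpec A : Scheme.{u}) := IsOpenImmersion.lift ι (ι' ≫ s) hr
  have hκ : κ ≫ ι = ι' ≫ s := IsOpenImmersion.lift_fac _ _ _
  have hpb : IsPullback κ ι' ι s := by
    refine IsOpenImmersion.isPullback _ _ _ _ hκ.symm ?_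
    simp only [ι, ι', Scheme.Opens.opensRange_ι]
    exact hU
  -- the lift over the completion
  obtain ⟨Y', ⟨eY⟩⟩ := H18PBC.PairEquiv.exists_cover (Ideal.span {f'}) (𝟙 (Spec (CommRingCat.of A'))) q' (𝟙 _)
    (IsPullback.of_vert_isIso ⟨by simp [q']⟩) ((FEt.restrict σ).obj Y₀)
  let p₁ := pullback.fst ι' q'
  let p₂ := pullback.snd ι' q'
  let τ : pullback ι' q' ⟶ pullback ι q := pullback.lift (p₁ ≫ κ) (p₂ ≫ σ) (by
    simp only [Category.assoc, hκ, hσ, p₁, p₂, pullback.condition_assoc])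
  let d : (FEt.restrict p₁).obj ((FEt.restrict ι').obj Y') ≅ (FEt.restrict p₁).obj ((FEt.restrict κ).obj V) :=
    restrictCompIso p₁ ι' (p₂ ≫ q') pullback.condition Y' ≪≫ (restrictCompIso p₂ q' _ rfl Y').symm ≪≫
    (FEt.restrict p₂).mapIso eY ≪≫ restrictCompIso p₂ σ (τ ≫ pullback.snd ι q) (pullback.lift_snd _ _ _).symm Y₀ ≪≫
    (restrictCompIso τ (pullback.snd ι q) _ rfl Y₀).symm ≪≫ (FEt.restrict τ).mapIso e ≪≫
    restrictCompIso τ (pullback.fst ι q) (p₁ ≫ κ) (pullback.lift_fst _ _ _) V ≪≫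
    (restrictCompIso p₁ κ _ rfl V).symm
  let ff := Functor.FullyFaithful.ofFullyFaithful (FEt.restrict p₁)
  let d' := ff.preimageIso d
  let γ := hpb.isoPullback
  exact H18Pur.Complete.exists_extend V Y'
    ((restrictCompIso γ.inv ι' _ hpb.isoPullback_inv_snd Y').symm ≪≫ (FEt.restrict γ.inv).mapIso d' ≪≫
      restrictCompIso γ.inv κ _ hpb.isoPullback_inv_fst V)

end Groth.Agent.H11LefFEt.Ext
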