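import Groth.Agent.H15Site.PunctFF.Closure
import Groth.Agent.H18Et.EtaleStalk
import Groth.Agent.H02CA.CompletionFlat
import Groth.Agent.H05EGA4.Completion
import Groth.Agent.H05EGA4.FiniteSemilocalCompletion
import Groth.Agent.H4Conn.Completion
import Groth.Agent.H4Conn.Apps
import Groth.Agent.H4Depth.Regular
import Groth.Agent.H4LC.CompletionTransfer
import Groth.Agent.H18PBC.PairEquiv
import Groth.Agent.H9Hens.PairOps
import Groth.Prelude.Def_FEt

/-!
# Full faithfulness on the punctured spectrum for virtual dimension at least two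
-/

set_option autoImplicit false
set_option linter.style.haveILetI false
set_option backward.isDefEq.respectTransparency false

universe u

open CategoryTheory CategoryTheory.Limits AlgebraicGeometry Opposite IsLocalRing TopologicalSpace

namespace Groth.Agent.H11LefFEt.VDim

/-- The strict generizations of a point. -/
def gens (X : Scheme.{u}) (z : X) : Set X := {p | p ⤳ z ∧ p ≠ z}

/-- The punctured spectrum of a quotient of a regular local ring by few equations is connected. -/
theorem isPreconnected_punctured (R : Type u) [CommRing R] [IsRegularLocalRing R] (d : ℕ) (hd : ringKrullDim R = d)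
    (T : Finset R) (hT : (T : Set R) ⊆ maximalIdeal R) (hc : T.card + 2 ≤ d) :
    _root_.IsPreconnected {y : PrimeSpectrum R | (Ideal.span (T : Set R) ≤ y.asIdeal) ∧ y ≠ closedPoint R} := by
  classical
  let C := AdicCompletion (maximalIdeal R) R
  haveI : IsRegularLocalRing C := H02CA.isRegularLocalRing_adicCompletion R
  haveI : IsDomain C := H4Depth.isDomain_of_isRegularLocalRing C
  have hm : maximalIdeal C = (maximalIdeal R).map (algebraMap R C) := AdicCompletion.maximalIdeal_eq_map
  haveI : IsAdicComplete (maximalIdeal C) C :=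
    hm ▸ H05EGA4.FiniteSemilocalCompletion.isAdicComplete_completion (maximalIdeal R)
  let J := Ideal.span (T : Set R)
  let I := J.map (algebraMap R C)
  have hI : I ≠ ⊤ := ne_top_of_le_ne_top (maximalIdeal.isMaximal C).ne_top
    (hm ▸ Ideal.map_mono (Ideal.span_le.2 hT))
  have hcd : LocCoh.CdLE C I T.card := fun M _ _ i hi => by
    refine H4Conn.cdLE_of_radical_span (s := T.image (algebraMap R C)) ?_ M i
      (lt_of_le_of_lt (by exact_mod_cast Finset.card_image_le) hi)
    rw [Finset.coe_image]
    exact congrArg Ideal.radical (Ideal.map_span (algebraMap R C) (T : Set R)).symm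
  have h := H4Conn.isConnected_punctured d (by rw [H05EGA4.ringKrullDim_adicCompletion, hd]) T.card hc I hI hcd
  suffices hE : {y : PrimeSpectrum R | (Ideal.span (T : Set R) ≤ y.asIdeal) ∧ y ≠ closedPoint R} =
      PrimeSpectrum.comap (algebraMap R C) '' {x | I ≤ x.asIdeal ∧ x.asIdeal ≠ maximalIdeal C} by
    rw [hE]
    exact h.isPreconnected.image _ (PrimeSpectrum.continuous_comap _).continuousOn
  refine Set.ext fun y => ⟨fun hy => ?_, ?_⟩
  · obtain ⟨p, rfl⟩ := H4Conn.comap_surjective R y
    refine ⟨p, ⟨Ideal.map_le_iff_le_comap.2 hy.1, fun e => hy.2 ?_⟩, rfl⟩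
    rw [show p = closedPoint C from PrimeSpectrum.ext e]
    haveI : IsLocalHom (algebraMap R C) := H4LC.isComplLike_adicCompletion.isLocalHom
    exact comap_closedPoint _
  · rintro ⟨p, ⟨hp, hpm⟩, rfl⟩
    refine ⟨Ideal.map_le_iff_le_comap.1 hp, fun e => hpm (le_antisymm (le_maximalIdeal p.isPrime.ne_top) ?_)⟩
    rw [hm, Ideal.map_le_iff_le_comap]
    exact (congrArg PrimeSpectrum.asIdeal e).ge

/-- Generizations are the image of those of a point over, for a flat morphism. -/
theorem gens_eq_image {X X' : Scheme.{u}} (π : X' ⟶ X) [Flat π] (z' : X')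
    (hz : ∀ p, p ⤳ z' → π p = π z' → p = z') : gens X (π z') = π '' gens X' z' := by
  refine Set.ext fun p => ⟨fun ⟨hp, hne⟩ => ?_, ?_⟩
  · obtain ⟨p', hp', rfl⟩ := Flat.generalizingMap (f := π) hp
    exact ⟨p', ⟨hp', fun e => hne (congrArg π e)⟩, rfl⟩
  · rintro ⟨p', ⟨hp', hne⟩, rfl⟩
    exact ⟨hp'.map π.continuous, fun e => hne (hz p' hp' e)⟩

/-- Full faithfulness from connectedness of the punctured local rings of all covers. -/
theorem full_faithful (A : Type u) [CommRing A] [IsNoetherianRing A] [IsLocalRing A]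
    (hA : ∃ p : PrimeSpectrum A, p ≠ closedPoint A)
    (hconn : ∀ (P : FEt.Cat (Spec (CommRingCat.of A))) (z : P.left), P.hom z = closedPoint A →
      _root_.IsPreconnected (gens P.left z)) :
    (FEt.restrict (FEt.puncturedSpec A).ι).Full ∧ (FEt.restrict (FEt.puncturedSpec A).ι).Faithful := by
  let U := FEt.puncturedSpec A
  let X := Spec (CommRingCat.of A)
  haveI : IsNoetherianRing ↑(CommRingCat.of A) := ‹IsNoetherianRing A›
  haveI : CompactSpace (U : Scheme.{u}) := isCompact_iff_compactSpace.1 (TopologicalSpace.NoetherianSpace.isCompact _)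
  haveI : QuasiCompact U.ι := inferInstance
  have hU : Dense (U : Set X) := fun x => by
    by_cases hx : (x : PrimeSpectrum A) = closedPoint A
    · obtain ⟨p, hp⟩ := hA
      refine (show (p : X) ⤳ x from ?_).mem_closed isClosed_closure (subset_closure hp)
      rw [show x = closedPoint A from hx]
      exact specializes_closedPoint p
    · exact subset_closure hx
  have hmeet := H15Site.PunctFF.meetsClopens hU
  refine ⟨H18Et.FEtRestrict.full _ hmeet ?_, H18Et.FEtRestrict.faithful _ hmeet⟩
  intro P T hT
  let π : P.left ⟶ X := P.hom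
  haveI : IsFinite π := P.prop.1
  haveI : Etale π := P.prop.2
  let j := pullback.fst π U.ι
  have hrange : Set.range j.base = π ⁻¹' (U : Set X) :=
    (IsOpenImmersion.range_pullbackFst U.ι π).trans (congrArg (π ⁻¹' ·) (Scheme.Opens.range_ι U))
  have hdis : Disjoint (j.base '' T) (j.base '' Tᶜ) :=
    Set.disjoint_image_of_injective j.isOpenEmbedding.injective disjoint_compl_right
  have hunion : j.base '' T ∪ j.base '' Tᶜ = Set.range j.base := by
    rw [← Set.image_union, Set.union_compl_self, Set.image_univ]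
  have hd : Disjoint (closure (j.base '' T)) (closure (j.base '' Tᶜ)) := by
    refine Set.disjoint_left.2 fun z hzC hzD => ?_
    have hz : π z = closedPoint A := by
      by_contra hne
      have hzU : z ∈ Set.range j.base := hrange ▸ hne
      rw [← hunion] at hzU
      rcases hzU with h | h
      · exact Set.disjoint_left.1 (hdis.closure_right (j.isOpenMap _ hT.2)) h hzD
      · exact Set.disjoint_left.1 (hdis.closure_left (j.isOpenMap _ hT.compl.2)) hzC h
    have hsub : gens P.left z ⊆ Set.range j.base := fun p ⟨hp, hne⟩ => by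
      rw [hrange]
      intro e
      haveI : LocallyQuasiFinite π := inferInstance
      obtain ⟨O, hO, hOS⟩ := isDiscrete_iff_forall_mem_exists_isOpen.1
        (π.isDiscrete_preimage_singleton (closedPoint A)) z hz
      have hzO : z ∈ O := (hOS.ge (Set.mem_singleton z)).1
      exact hne (hOS.le ⟨hp.mem_open hO hzO, e⟩)
    have hcs := H15Site.PunctFF.closureBySpecialization_of_quasiCompact U P
    have hlift : ∀ S, IsClopen S → z ∈ closure (j.base '' S) → (gens P.left z ∩ j.base '' S).Nonempty := by
      intro S hS hzS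
      obtain ⟨η, hη, hηz⟩ := hcs S hS z hzS
      refine ⟨η, ⟨hηz, fun e => ?_⟩, hη⟩
      have : η ∈ π ⁻¹' (U : Set X) := hrange ▸ Set.image_subset_range _ _ hη
      exact (e ▸ this : z ∈ π ⁻¹' (U : Set X)) hz
    obtain ⟨p, hp, hpT, hpT'⟩ := hconn P z hz _ _ (j.isOpenMap _ hT.2) (j.isOpenMap _ hT.compl.2)
      (hunion ▸ hsub) (hlift T hT hzC) (hlift Tᶜ hT.compl hzD)
    exact Set.disjoint_left.1 hdis hpT hpT'
  have hcov : closure (j.base '' T) ∪ closure (j.base '' Tᶜ) = Set.univ := by
    rw [← closure_union, hunion, hrange]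
    exact (hU.preimage π.isOpenMap).closure_eq
  refine ⟨closure (j.base '' T), ⟨isClosed_closure, ?_⟩, ?_⟩
  · rw [show closure (j.base '' T) = (closure (j.base '' Tᶜ))ᶜ from
      (IsCompl.compl_eq (IsCompl.symm ⟨hd, by rw [codisjoint_iff]; exact hcov⟩)).symm]
    exact isClosed_closure.isOpen_compl
  · refine Set.Subset.antisymm (fun q hq => ?_) fun q hq => subset_closure ⟨q, hq, rfl⟩
    by_contra hqT
    exact Set.disjoint_left.1 hd hq (subset_closure ⟨q, hqT, rfl⟩)

/-- A closed fibre point of a cover of a regular local ring, cut by few equations. -/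
theorem isPreconnected_gens_inter (S : Type u) [CommRing S] [IsRegularLocalRing S] (d : ℕ) (hd : ringKrullDim S = d)
    (s : Finset S) (hs : (s : Set S) ⊆ maximalIdeal S) (hc : s.card + 2 ≤ d)
    (Q : FEt.Cat (Spec (CommRingCat.of S))) (z : Q.left) (hz : Q.hom z = closedPoint S) :
    _root_.IsPreconnected (gens Q.left z ∩ Q.hom ⁻¹' (PrimeSpectrum.zeroLocus (s : Set S))) := by
  classical
  let π : Q.left ⟶ Spec (CommRingCat.of S) := Q.hom
  haveI : Etale π := Q.prop.2
  haveI : IsNoetherianRing ↑(CommRingCat.of S) := inferInstanceAs (IsNoetherianRing S)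
  haveI : IsLocallyNoetherian Q.left := LocallyOfFiniteType.isLocallyNoetherian π
  let R := Q.left.presheaf.stalk z
  have hzero : π.base z = closedPoint S := hz
  let p₀ : PrimeSpectrum S := π.base z
  let e : S ≃+* (Spec.structureSheaf S).presheaf.stalk p₀ :=
    (IsLocalization.atUnits S p₀.asIdeal.primeCompl (fun x hx => by
      rw [show p₀ = closedPoint S from hzero] at hx
      exact (IsLocalRing.notMem_maximalIdeal).1 hx) (S := (Spec.structureSheaf S).presheaf.stalk p₀)).toRingEquiv
  haveI : IsRegularLocalRing ((Spec (CommRingCat.of S)).presheaf.stalk (π.base z)) := IsRegularLocalRing.of_ringEquiv e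
  haveI : IsRegularLocalRing R := (H18Et.isRegularLocalRing_stalk_iff_of_etale π z).2 inferInstance
  have hdR : ringKrullDim R = d := by
    rw [H18Et.ringKrullDim_stalk_eq_of_etale π z]
    exact (ringKrullDim_eq_of_ringEquiv e).symm.trans hd
  let g : Spec R ⟶ Spec (CommRingCat.of S) := Q.left.fromSpecStalk z ≫ π
  let ψ := Spec.preimage g
  have hg : Spec.map ψ = g := Spec.map_preimage g
  have hgc : g (closedPoint R) = closedPoint S := by
    show π (Q.left.fromSpecStalk z (closedPoint R)) = _
    rw [Scheme.fromSpecStalk_closedPoint]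
    exact hz
  have h := isPreconnected_punctured R d hdR (s.image ψ.hom) (by
      rw [Finset.coe_image]
      rintro _ ⟨a, ha, rfl⟩
      have : a ∈ (g (closedPoint R) : PrimeSpectrum S).asIdeal := by rw [hgc]; exact hs ha
      rw [← hg] at this
      exact this) (le_trans (Nat.add_le_add_right Finset.card_image_le 2) hc)
  suffices hE : gens Q.left z ∩ Q.hom ⁻¹' (PrimeSpectrum.zeroLocus (s : Set S)) = Q.left.fromSpecStalk z ''
      {y : PrimeSpectrum R | (Ideal.span ((s.image ψ.hom : Finset R) : Set R) ≤ y.asIdeal) ∧ y ≠ closedPoint R} by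
    rw [hE]
    exact h.image _ (Q.left.fromSpecStalk z).continuous.continuousOn
  refine Set.ext fun p => ⟨fun hp => ?_, ?_⟩
  · obtain ⟨⟨hpz, hne⟩, hps⟩ := hp
    obtain ⟨y, rfl⟩ : p ∈ Set.range (Q.left.fromSpecStalk z) := by rw [Scheme.range_fromSpecStalk]; exact hpz
    refine ⟨y, ⟨?_, fun e => hne (by rw [e, Scheme.fromSpecStalk_closedPoint])⟩, rfl⟩
    rw [Finset.coe_image, Ideal.span_le]
    rintro _ ⟨a, ha, rfl⟩
    have : a ∈ (g y : PrimeSpectrum S).asIdeal := hps ha
    rw [← hg] at this
    exact this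
  · rintro ⟨y, ⟨hy, hne⟩, rfl⟩
    refine ⟨⟨?_, fun e => hne ((Q.left.fromSpecStalk z).isEmbedding.injective
      (e.trans Scheme.fromSpecStalk_closedPoint.symm))⟩, fun a ha => ?_⟩
    · have : Q.left.fromSpecStalk z y ∈ Set.range (Q.left.fromSpecStalk z) := ⟨y, rfl⟩
      rwa [Scheme.range_fromSpecStalk] at this
    · show a ∈ (g y : PrimeSpectrum S).asIdeal
      rw [← hg]
      exact hy (Ideal.subset_span (Finset.mem_coe.2 (Finset.mem_image_of_mem _ ha)))

/-- The closed fibre points of covers have connected punctured local spectra in virtual dimension two. -/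
theorem isPreconnected_gens (A : Type u) [CommRing A] [IsNoetherianRing A] [IsLocalRing A]
    (S : Type u) [CommRing S] [IsRegularLocalRing S] [IsAdicComplete (maximalIdeal S) S]
    (d : ℕ) (hd : ringKrullDim S = d) (s : Finset S) (hs : s.card + 2 ≤ d)
    (e : AdicCompletion (maximalIdeal A) A ≃+* S ⧸ Ideal.span (s : Set S))
    (P : FEt.Cat (Spec (CommRingCat.of A))) (z : P.left) (hz : P.hom z = closedPoint A) :
    _root_.IsPreconnected (gens P.left z) := by
  let A' := AdicCompletion (maximalIdeal A) A
  haveI : Module.FaithfullyFlat A A' := H4Conn.faithfullyFlat_completion A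
  have hm : maximalIdeal A' = (maximalIdeal A).map (algebraMap A A') := AdicCompletion.maximalIdeal_eq_map
  let I := Ideal.span (s : Set S)
  have hsm : (s : Set S) ⊆ maximalIdeal S := fun a ha => by
    by_contra h
    have : I = ⊤ := Ideal.eq_top_of_isUnit_mem _ (Ideal.subset_span ha) ((IsLocalRing.notMem_maximalIdeal).1 h)
    haveI : Subsingleton (S ⧸ I) := Ideal.Quotient.subsingleton_iff.mpr this
    haveI : Subsingleton A' := e.toEquiv.subsingleton
    exact false_of_nontrivial_of_subsingleton A'
  haveI : HenselianRing S I :=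
    H9Hens.henselianRing_of_le (J := maximalIdeal S) (Ideal.span_le.2 hsm)
  let φ := Spec.map (CommRingCat.ofHom (algebraMap A A'))
  haveI : Flat φ := by
    rw [HasRingHomProperty.Spec_iff (P := @Flat)]
    exact (RingHom.flat_algebraMap_iff).mpr inferInstance
  haveI : Surjective φ := ⟨PrimeSpectrum.comap_surjective_of_faithfullyFlat⟩
  let P' := (FEt.restrict φ).obj P
  let π : P'.left ⟶ P.left := pullback.fst P.hom φ
  haveI : Flat π := MorphismProperty.pullback_fst _ _ inferInstance
  haveI : Surjective π := MorphismProperty.pullback_fst _ _ inferInstance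
  obtain ⟨z', rfl⟩ := π.surjective z
  let π' : P'.left ⟶ Spec (CommRingCat.of A') := P'.hom
  haveI : Etale π' := P'.prop.2
  haveI : IsFinite π' := P'.prop.1
  have hw : π ≫ P.hom = π' ≫ φ := pullback.condition
  have hcl : ∀ p : P'.left, P.hom (π p) = closedPoint A → π' p = closedPoint A' := fun p hp => by
    have h : φ (π' p) = closedPoint A := congr($(hw.symm) p).trans hp
    refine PrimeSpectrum.ext (le_antisymm (le_maximalIdeal (π' p : PrimeSpectrum A').isPrime.ne_top) ?_)
    show maximalIdeal A' ≤ _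
    rw [hm, Ideal.map_le_iff_le_comap]
    exact (congrArg PrimeSpectrum.asIdeal h).ge
  rw [gens_eq_image π z' fun p hp he => by
    obtain ⟨O, hO, hOS⟩ := isDiscrete_iff_forall_mem_exists_isOpen.1
      (π'.isDiscrete_preimage_singleton (closedPoint A')) z' (hcl z' hz)
    exact hOS.le ⟨hp.mem_open hO (hOS.ge (Set.mem_singleton z')).1, hcl p (by rw [he]; exact hz)⟩]
  refine _root_.IsPreconnected.image ?_ _ π.continuous.continuousOn
  -- lift to the regular ring
  let c : Spec (CommRingCat.of A') ⟶ Spec (CommRingCat.of S) :=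
    Spec.map (CommRingCat.ofHom (e.symm.toRingHom.comp (Ideal.Quotient.mk I)))
  let e' : CommRingCat.of (S ⧸ I) ≅ CommRingCat.of A' := e.symm.toCommRingCatIso
  let σ : Spec (CommRingCat.of A') ⟶ Spec (CommRingCat.of (S ⧸ I)) := Spec.map e'.hom
  haveI : IsIso σ := inferInstance
  have hσ : σ ≫ Spec.map (CommRingCat.ofHom (Ideal.Quotient.mk I)) = c := (Spec.map_comp _ _).symm
  obtain ⟨Q, ⟨eQ⟩⟩ := H18PBC.PairEquiv.exists_cover I (𝟙 (Spec (CommRingCat.of S))) c σ
    (IsPullback.of_vert_isIso ⟨by rw [Category.comp_id, hσ]⟩) P'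
  haveI : IsClosedImmersion c := IsClosedImmersion.spec_of_surjective _
    (e.symm.surjective.comp Ideal.Quotient.mk_surjective)
  let ρ : P'.left ⟶ Q.left := eQ.inv.left ≫ pullback.fst Q.hom c
  haveI : IsIso eQ.inv.left := inferInstanceAs (IsIso ((MorphismProperty.Over.forget _ _ _ ⋙ Over.forget _).map eQ.inv))
  haveI : IsClosedImmersion (pullback.fst Q.hom c) := MorphismProperty.pullback_fst _ _ inferInstance
  haveI : IsClosedImmersion ρ := inferInstance
  have hρ : ρ ≫ Q.hom = π' ≫ c := by
    show (eQ.inv.left ≫ pullback.fst Q.hom c) ≫ Q.hom = _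
    rw [Category.assoc, pullback.condition]
    exact congrArg (· ≫ c) (MorphismProperty.Over.w eQ.inv)
  have hcrange : Set.range c = PrimeSpectrum.zeroLocus (s : Set S) := by
    refine (range_comap_of_surjective (f := e.symm.toRingHom.comp (Ideal.Quotient.mk I)) _
      (e.symm.surjective.comp Ideal.Quotient.mk_surjective)).trans ?_
    rw [show RingHom.ker (e.symm.toRingHom.comp (Ideal.Quotient.mk I)) = I by
      rw [RingHom.ker_comp_of_injective _ e.symm.injective, Ideal.mk_ker], PrimeSpectrum.zeroLocus_span]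
  have hρrange : Set.range ρ = Q.hom ⁻¹' PrimeSpectrum.zeroLocus (s : Set S) := by
    rw [← hcrange]
    exact (Function.Surjective.range_comp (f := eQ.inv.left) (eQ.inv.left.surjective) _).trans
      (Scheme.Pullback.range_fst _ _)
  have hze : Q.hom (ρ z') = closedPoint S := by
    refine (congr($hρ z')).trans ?_
    show c (π' z') = _
    rw [hcl z' hz]
    haveI : IsLocalHom (e.symm.toRingHom.comp (Ideal.Quotient.mk I)) := ⟨fun a ha => by
      by_contra h
      obtain ⟨b, hb⟩ := (e.symm.surjective.comp Ideal.Quotient.mk_surjective) (0 : A')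
      have := map_maximalIdeal_of_surjective (e.symm.toRingHom.comp (Ideal.Quotient.mk I))
        (e.symm.surjective.comp Ideal.Quotient.mk_surjective)
      exact (IsLocalRing.notMem_maximalIdeal.2 ha) (this ▸ Ideal.mem_map_of_mem _ h)⟩
    exact comap_closedPoint _
  refine (ρ.isClosedEmbedding.isInducing.isPreconnected_image).1 ?_
  have h := isPreconnected_gens_inter S d hd s hsm hs Q (ρ z') hze
  suffices hE : gens Q.left (ρ z') ∩ Q.hom ⁻¹' (PrimeSpectrum.zeroLocus (s : Set S)) = ρ '' gens P'.left z' by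
    rw [← hE]
    exact h
  refine Set.ext fun p => ⟨?_, ?_⟩
  · rintro ⟨⟨hp, hne⟩, hps⟩
    obtain ⟨p', rfl⟩ : p ∈ Set.range ρ := hρrange ▸ hps
    exact ⟨p', ⟨ρ.isClosedEmbedding.isInducing.specializes_iff.1 hp, fun e => hne (congrArg ρ e)⟩, rfl⟩
  · rintro ⟨p', ⟨hp, hne⟩, rfl⟩
    exact ⟨⟨hp.map ρ.continuous, fun e => hne (ρ.isClosedEmbedding.injective e)⟩,
      hρrange ▸ Set.mem_range_self p'⟩

/-- The punctured spectrum is nonempty. -/
theorem exists_ne_closedPoint (A : Type u) [CommRing A] [IsNoetherianRing A] [IsLocalRing A]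
    (S : Type u) [CommRing S] [IsRegularLocalRing S] [IsAdicComplete (maximalIdeal S) S]
    (d : ℕ) (hd : ringKrullDim S = d) (s : Finset S) (hs : s.card + 2 ≤ d)
    (e : AdicCompletion (maximalIdeal A) A ≃+* S ⧸ Ideal.span (s : Set S)) :
    ∃ p : PrimeSpectrum A, p ≠ closedPoint A := by
  haveI : IsDomain S := H4Depth.isDomain_of_isRegularLocalRing S
  let I := Ideal.span (s : Set S)
  have hI : I ≠ ⊤ := fun h => by
    haveI : Subsingleton (S ⧸ I) := Ideal.Quotient.subsingleton_iff.mpr h
    haveI : Subsingleton (AdicCompletion (maximalIdeal A) A) := e.toEquiv.subsingleton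
    exact false_of_nontrivial_of_subsingleton (AdicCompletion (maximalIdeal A) A)
  obtain ⟨x, hIx, hx⟩ := (H4Conn.isConnected_punctured d hd s.card hs I hI
    (H4Conn.cdLE_of_radical_span rfl)).nonempty
  obtain ⟨y, rfl⟩ : x ∈ Set.range (PrimeSpectrum.comap (Ideal.Quotient.mk I)) := by
    rw [range_comap_of_surjective _ _ Ideal.Quotient.mk_surjective, Ideal.mk_ker]
    exact hIx
  haveI : Nontrivial (S ⧸ I) := Ideal.Quotient.nontrivial_iff.2 hI
  haveI : IsLocalRing (S ⧸ I) := .of_surjective' _ Ideal.Quotient.mk_surjective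
  let y' := PrimeSpectrum.comap e.toRingHom y
  refine ⟨PrimeSpectrum.comap (algebraMap A (AdicCompletion (maximalIdeal A) A)) y', fun h => hx ?_⟩
  have hy : y'.asIdeal = maximalIdeal (AdicCompletion (maximalIdeal A) A) := by
    refine le_antisymm (le_maximalIdeal y'.isPrime.ne_top) ?_
    rw [AdicCompletion.maximalIdeal_eq_map, Ideal.map_le_iff_le_comap]
    exact (congrArg PrimeSpectrum.asIdeal h).ge
  refine (maximalIdeal.isMaximal S).eq_of_le
    (PrimeSpectrum.comap (Ideal.Quotient.mk I) y).isPrime.ne_top (fun a ha => ?_) |>.symm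
  have h3 : Ideal.Quotient.mk I a ∈ maximalIdeal (S ⧸ I) :=
    (map_maximalIdeal_of_surjective _ Ideal.Quotient.mk_surjective).le (Ideal.mem_map_of_mem _ ha)
  have h1 : e.symm (Ideal.Quotient.mk I a) ∈ y'.asIdeal := by
    rw [hy, mem_maximalIdeal, mem_nonunits_iff]
    intro hu
    have h4 : IsUnit (Ideal.Quotient.mk I a) := by
      have := hu.map e.toRingHom
      simpa using this
    exact (mem_maximalIdeal _).1 h3 h4
  show Ideal.Quotient.mk I a ∈ y.asIdeal
  have h2 : e (e.symm (Ideal.Quotient.mk I a)) ∈ y.asIdeal := h1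
  rwa [e.apply_symm_apply] at h2

/-- The punctured spectrum is connected. -/
theorem connectedSpace (A : Type u) [CommRing A] [IsNoetherianRing A] [IsLocalRing A]
    (S : Type u) [CommRing S] [IsRegularLocalRing S] [IsAdicComplete (maximalIdeal S) S]
    (d : ℕ) (hd : ringKrullDim S = d) (s : Finset S) (hs : s.card + 2 ≤ d)
    (e : AdicCompletion (maximalIdeal A) A ≃+* S ⧸ Ideal.span (s : Set S)) :
    ConnectedSpace ↥(FEt.puncturedSpec A : Scheme.{u}) := by
  obtain ⟨p, hp⟩ := exists_ne_closedPoint A S d hd s hs e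
  let X := Spec (CommRingCat.of A)
  let P : FEt.Cat X := MorphismProperty.Over.mk ⊤ (𝟙 X) ⟨inferInstance, inferInstance⟩
  have h : _root_.IsPreconnected (gens X (closedPoint A)) :=
    isPreconnected_gens A S d hd s hs e P (closedPoint A) rfl
  have hset : gens X (closedPoint A) = (FEt.puncturedSpec A : Set X) :=
    Set.ext fun q => ⟨fun hq => hq.2, fun hq => ⟨specializes_closedPoint (q : PrimeSpectrum A), hq⟩⟩
  exact Subtype.connectedSpace (s := (FEt.puncturedSpec A : Set X)) ⟨⟨p, hp⟩, hset ▸ h⟩

end Groth.Agent.H11LefFEt.VDim
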