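import Groth.Agent.H11LefFEt.IdemDescent
import Groth.Prelude.Def_FEt

/-!
# Clopens of a cover away from `f` descend along a completion of a henselian pair
-/

set_option autoImplicit false
set_option linter.style.haveILetI false
set_option backward.isDefEq.respectTransparency false

universe u

open CategoryTheory CategoryTheory.Limits AlgebraicGeometry Opposite TopologicalSpace
open scoped TensorProduct

namespace Groth.Agent.H11LefFEt.Descent

variable {A : Type u} [CommRing A] {A' : Type u} [CommRing A'] [Algebra A A'] {f : A}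

theorem exists_clopen_descent [HenselianRing A (Ideal.span {f})] [Module.FaithfullyFlat A A']
    (hjac : ∀ m : Ideal A', m.IsMaximal → algebraMap A A' f ∈ m)
    (hsurj : ∀ (M : ℕ) (a' : A'), ∃ a : A, a' - algebraMap A A' a ∈ Ideal.span {algebraMap A A' (f ^ M)})
    {U : (Spec (CommRingCat.of A)).Opens} (hU : PrimeSpectrum.basicOpen f ≤ U)
    {V : Scheme.{u}} (π : V ⟶ (U : Scheme.{u})) [IsFinite π]
    {V' U' : Scheme.{u}} {p : V' ⟶ V} {π' : V' ⟶ U'} {ι' : U' ⟶ Spec (CommRingCat.of A')} [Mono ι']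
    (hp : IsPullback p (π' ≫ ι') (π ≫ U.ι) (Spec.map (CommRingCat.ofHom (algebraMap A A'))))
    (W' : Set V') (hW' : IsClopen W') :
    ∃ W : Set V, IsOpen W ∧ W ⊆ (π ≫ U.ι) ⁻¹' (PrimeSpectrum.basicOpen f : Set (PrimeSpectrum A)) ∧
      p ⁻¹' W = W' ∩ p ⁻¹' ((π ≫ U.ι) ⁻¹' (PrimeSpectrum.basicOpen f : Set (PrimeSpectrum A))) := by
  let g := π ≫ U.ι
  let D : (Spec (CommRingCat.of A)).Opens := PrimeSpectrum.basicOpen f
  let Vo : V.Opens := g ⁻¹ᵁ D
  have hD : IsAffineOpen D := by
    rw [show D = (Spec (CommRingCat.of A)).basicOpen ((Scheme.ΓSpecIso (CommRingCat.of A)).inv f) from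
      (basicOpen_eq_of_affine (R := CommRingCat.of A) f).symm]
    exact (isAffineOpen_top _).basicOpen _
  have hD' : IsAffineOpen (U.ι ⁻¹ᵁ D) :=
    hD.preimage_of_isOpenImmersion U.ι (hU.trans U.opensRange_ι.ge)
  have hVo : IsAffineOpen Vo := hD'.preimage π
  haveI : IsIso (U.ι.app D) := U.ι.isIso_app D (hU.trans U.opensRange_ι.ge)
  have hfin : (g.app D).hom.Finite := by
    have h1 : (g.app D).hom = (π.app (U.ι ⁻¹ᵁ D)).hom.comp (U.ι.app D).hom := rfl
    rw [h1]
    exact (IsFinite.finite_app π (U.ι ⁻¹ᵁ D) hD').comp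
      (RingHom.Finite.of_surjective _ (ConcreteCategory.bijective_of_isIso (U.ι.app D)).2)
  let R := Γ(V, Vo)
  letI : Algebra A Γ(Spec (CommRingCat.of A), D) := StructureSheaf.openAlgebra A (op D)
  haveI : IsLocalization.Away f Γ(Spec (CommRingCat.of A), D) :=
    StructureSheaf.IsLocalization.to_basicOpen A f
  letI : Algebra A R := ((g.app D).hom.comp (algebraMap A Γ(Spec (CommRingCat.of A), D))).toAlgebra
  letI : Algebra Γ(Spec (CommRingCat.of A), D) R := (g.app D).hom.toAlgebra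
  haveI : IsScalarTower A Γ(Spec (CommRingCat.of A), D) R := IsScalarTower.of_algebraMap_eq fun _ => rfl
  haveI : Module.Finite Γ(Spec (CommRingCat.of A), D) R := hfin
  have hu : IsUnit (algebraMap A R f) :=
    (IsLocalization.Away.algebraMap_isUnit (S := Γ(Spec (CommRingCat.of A), D)) f).map (g.app D).hom
  have hint : ∀ x : R, ∃ k : ℕ, IsIntegral A (f ^ k • x) := fun x => by
    obtain ⟨⟨_, k, rfl⟩, hk⟩ := IsIntegral.exists_multiple_integral_of_isLocalization
      (Submonoid.powers f) (Rₘ := Γ(Spec (CommRingCat.of A), D)) x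
      (Algebra.IsIntegral.isIntegral (R := Γ(Spec (CommRingCat.of A), D)) x)
    exact ⟨k, hk⟩
  -- the structure map
  have hsq : Spec.map (CommRingCat.ofHom (algebraMap A R)) = hVo.fromSpec ≫ g := by
    rw [← hD.SpecMap_appLE_fromSpec g hVo le_rfl]
    show _ = Spec.map (g.appLE D Vo le_rfl) ≫ hD.fromSpec
    have h2 := hD.fromSpec
    rw [show CommRingCat.ofHom (algebraMap A R) =
      CommRingCat.ofHom (algebraMap A Γ(Spec (CommRingCat.of A), D)) ≫ g.app D from rfl, Spec.map_comp,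
      Scheme.Hom.app_eq_appLE]
    congr 1
    have h3 := (isAffineOpen_top (Spec (CommRingCat.of A))).SpecMap_appLE_fromSpec (𝟙 _) hD
      (le_top : D ≤ (𝟙 (Spec (CommRingCat.of A))) ⁻¹ᵁ ⊤)
    rw [Category.comp_id, IsAffineOpen.fromSpec_top, Scheme.isoSpec_Spec_inv, ← Spec.map_comp] at h3
    rw [show Scheme.Hom.appLE (𝟙 (Spec (CommRingCat.of A))) ⊤ D le_top =
      (Spec (CommRingCat.of A)).presheaf.map (homOfLE le_top).op by simp [Scheme.Hom.appLE]] at h3
    exact h3
  let P := A' ⊗[A] R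
  let q := Spec.map (CommRingCat.ofHom (algebraMap A A'))
  let bR : Spec (CommRingCat.of P) ⟶ Spec (CommRingCat.of R) :=
    Spec.map (CommRingCat.ofHom (Algebra.TensorProduct.includeRight (R := A) (A := A') (B := R)).toRingHom)
  let bA : Spec (CommRingCat.of P) ⟶ Spec (CommRingCat.of A') :=
    Spec.map (CommRingCat.ofHom (Algebra.TensorProduct.includeLeftRingHom (R := A) (A := A') (B := R)))
  have hP : IsPullback bR bA (Spec.map (CommRingCat.ofHom (algebraMap A R))) q :=
    (isPullback_SpecMap_of_isPushout _ _ _ _ (CommRingCat.isPushout_tensorProduct A A' R)).flip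
  let c : Spec (CommRingCat.of P) ⟶ V' := hp.lift (bR ≫ hVo.fromSpec) bA (by
    rw [Category.assoc, ← hsq]; exact hP.w)
  have hc1 : c ≫ p = bR ≫ hVo.fromSpec := hp.lift_fst _ _ _
  have hsurjc : ∀ y : V', g (p y) ∈ D → ∃ z, c z = y := fun y hy => by
    let l := V'.fromSpecResidueField y
    haveI := hVo.isOpenImmersion_fromSpec
    have hr : Set.range (l ≫ p) ⊆ Set.range hVo.fromSpec := by
      rintro _ ⟨t, rfl⟩
      rw [hVo.range_fromSpec, Scheme.Hom.comp_apply, Scheme.fromSpecResidueField_apply]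
      exact hy
    let k := hP.lift (IsOpenImmersion.lift hVo.fromSpec (l ≫ p) hr) (l ≫ π' ≫ ι') (by
      rw [hsq, IsOpenImmersion.lift_fac_assoc, Category.assoc, Category.assoc, hp.w, Category.assoc])
    have hk : k ≫ c = l := hp.hom_ext
      (by rw [Category.assoc, hc1, hP.lift_fst_assoc, IsOpenImmersion.lift_fac])
      (by rw [Category.assoc, hp.lift_snd, hP.lift_snd])
    refine ⟨k (IsLocalRing.closedPoint _), ?_⟩
    rw [← Scheme.Hom.comp_apply, hk, Scheme.fromSpecResidueField_apply]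
  obtain ⟨e', he', hcW⟩ := PrimeSpectrum.isClopen_iff.1 (hW'.preimage c.continuous)
  obtain ⟨e, he, hee⟩ := Idem.exists_descent f hjac hsurj hu hint e' he'
  refine ⟨hVo.fromSpec '' (PrimeSpectrum.basicOpen e : Set (PrimeSpectrum R)),
    hVo.fromSpec.isOpenEmbedding.isOpenMap _ (PrimeSpectrum.basicOpen e).2, ?_, ?_⟩
  · rintro _ ⟨r, -, rfl⟩
    exact hVo.range_fromSpec.le ⟨r, rfl⟩
  have key : ∀ z : Spec (CommRingCat.of P), p (c z) ∈ hVo.fromSpec '' (PrimeSpectrum.basicOpen e : Set (PrimeSpectrum R)) ↔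
      c z ∈ W' := fun z => by
    rw [← Scheme.Hom.comp_apply, hc1, Scheme.Hom.comp_apply]
    refine hVo.fromSpec.isOpenEmbedding.injective.mem_set_image.trans ?_
    refine Iff.trans ?_ (Set.ext_iff.1 hcW z).symm
    rw [← hee]
    exact Iff.rfl
  ext y
  simp only [Set.mem_preimage, Set.mem_inter_iff]
  constructor
  · rintro hy
    have hyD : g (p y) ∈ D := by
      obtain ⟨r, -, hr⟩ := hy
      exact hr ▸ hVo.range_fromSpec.le ⟨r, rfl⟩
    obtain ⟨z, rfl⟩ := hsurjc y hyD
    exact ⟨(key z).1 hy, hyD⟩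
  · rintro ⟨hy, hyD⟩
    obtain ⟨z, rfl⟩ := hsurjc y hyD
    exact (key z).2 hy

end Groth.Agent.H11LefFEt.Descent
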