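import Groth.Agent.H4LC.CompletionTransfer
import Groth.Agent.H4LC.CanonCM
import Groth.Agent.H05EGA4.FiniteSemilocalCompletion
import Groth.Agent.H02CA.AdicSmooth
import Groth.Agent.H05EGA4.Regular2
import Groth.Agent.S2321

/-!
# The completion of a Noetherian local ring along an element of the maximal ideal
-/

set_option autoImplicit false
set_option linter.style.haveILetI false

universe u

open IsLocalRing
open scoped TensorProduct

namespace Groth.Agent.H11LefFEt.Completion

variable {A : Type u} [CommRing A] [IsNoetherianRing A]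

theorem isAdicComplete_span (f : A) :
    IsAdicComplete (Ideal.span {algebraMap A (AdicCompletion (Ideal.span {f}) A) f})
      (AdicCompletion (Ideal.span {f}) A) := by
  have h := H05EGA4.FiniteSemilocalCompletion.isAdicComplete_completion (Ideal.span {f})
  rwa [Ideal.map_span, Set.image_singleton] at h

theorem mem_of_isMaximal (f : A) (m : Ideal (AdicCompletion (Ideal.span {f}) A)) (hm : m.IsMaximal) :
    algebraMap A (AdicCompletion (Ideal.span {f}) A) f ∈ m := by
  haveI := isAdicComplete_span f
  exact Ideal.mem_sInf.1 ((IsAdicComplete.le_jacobson_bot _) (Ideal.mem_span_singleton_self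
    (algebraMap A (AdicCompletion (Ideal.span {f}) A) f))) ⟨bot_le, hm⟩

theorem exists_sub_mem (f : A) (M : ℕ) (a' : AdicCompletion (Ideal.span {f}) A) :
    ∃ a : A, a' - algebraMap A _ a ∈ Ideal.span {algebraMap A (AdicCompletion (Ideal.span {f}) A) (f ^ M)} := by
  obtain ⟨a, ha⟩ := H02CA.AdicSmooth.exists_sub_algebraMap_mem (Ideal.span {f})
    (IsNoetherian.noetherian _) M a'
  exact ⟨a, by rwa [Ideal.span_singleton_pow, Ideal.map_span, Set.image_singleton] at ha⟩

theorem faithfullyFlat [IsLocalRing A] {f : A} (hf : f ∈ maximalIdeal A) :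
    Module.FaithfullyFlat A (AdicCompletion (Ideal.span {f}) A) :=
  ((Groth.Agent.S2321.result A (Ideal.span {f})).out 0 1).mp
    (((Ideal.span_singleton_le_iff_mem _).2 hf).trans (IsLocalRing.maximalIdeal_le_jacobson _))

theorem isLocalRing [IsLocalRing A] {f : A} (hf : f ∈ maximalIdeal A) :
    ∃ _ : IsLocalRing (AdicCompletion (Ideal.span {f}) A),
      (maximalIdeal A).map (algebraMap A (AdicCompletion (Ideal.span {f}) A)) =
        maximalIdeal (AdicCompletion (Ideal.span {f}) A) := by
  let I := Ideal.span {f}
  have fg : I.FG := IsNoetherian.noetherian I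
  haveI := AdicCompletion.isAdicComplete_self I fg
  have hmax := AdicCompletion.isMaximal_map_of_le I (maximalIdeal A) ((Ideal.span_singleton_le_iff_mem _).2 hf) fg
  have hloc : IsLocalRing (AdicCompletion I A) := by
    refine IsLocalRing.of_unique_max_ideal ⟨_, hmax, fun M hM ↦ ?_⟩
    refine (hmax.eq_of_le hM.ne_top (Ideal.map_le_iff_le_comap.2 fun a ha => ?_)).symm
    by_contra hne
    -- a point of a maximal ideal over an element outside it
    obtain ⟨b, hb⟩ := exists_sub_mem f 1 (1 : AdicCompletion I A)
    obtain ⟨y, i, hi, hy⟩ := Ideal.IsMaximal.exists_inv hM (x := algebraMap A (AdicCompletion I A) a) hne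
    obtain ⟨c, hc⟩ := exists_sub_mem f 1 y
    obtain ⟨d, hd⟩ := Ideal.mem_span_singleton'.1 hc
    have hfM := mem_of_isMaximal f M hM
    have hu : IsUnit (1 - c * a) := (IsLocalRing.notMem_maximalIdeal).1 fun h =>
      (maximalIdeal.isMaximal A).ne_top ((Ideal.eq_top_iff_one _).2
        (by simpa using add_mem h (Ideal.mul_mem_left _ c ha)))
    have : algebraMap A (AdicCompletion I A) (1 - c * a) ∈ M := by
      rw [map_sub, map_one, map_mul, ← hy]
      have e : y * algebraMap A _ a + i - algebraMap A _ c * algebraMap A (AdicCompletion I A) a =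
          i + (y - algebraMap A _ c) * algebraMap A _ a := by ring
      rw [e, ← hd, map_pow, pow_one]
      exact add_mem hi (Ideal.mul_mem_right _ _ (Ideal.mul_mem_left _ _ hfM))
    exact hM.ne_top (Ideal.eq_top_of_isUnit_mem _ this (hu.map _))
  exact ⟨hloc, IsLocalRing.eq_maximalIdeal hmax⟩

/-- Torsion of local cohomology survives flat base change. -/
theorem H_killed (A' : Type u) [CommRing A'] [Algebra A A'] [IsNoetherianRing A'] [IsLocalRing A'] [Module.Flat A A'] (I : Ideal A)
    (i : ℕ) (c : A) (h : ∀ x : LocCoh.H I i A, c • x = 0) (x : LocCoh.H (I.map (algebraMap A A')) i A') :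
    algebraMap A A' c • x = 0 := by
  obtain ⟨e⟩ := H4LC.nonempty_baseChange_H A' I A i
  obtain ⟨e'⟩ := H4LC.nonempty_H_congr (I.map (algebraMap A A')) (TensorProduct.AlgebraTensorModule.rid A A' A') i
  obtain ⟨z, rfl⟩ := (e.trans e').surjective x
  rw [← map_smul, algebraMap_smul]
  have : c • z = 0 := by
    induction z using TensorProduct.induction_on with
    | zero => exact smul_zero _
    | add a b ha hb => rw [smul_add, ha, hb, add_zero]
    | tmul a b => rw [← TensorProduct.tmul_smul, h, TensorProduct.tmul_zero]
  rw [this, map_zero]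

end Groth.Agent.H11LefFEt.Completion
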