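import Mathlib
import Groth.Agent.H9Hens.Pair
import Groth.Agent.H4LC.CompletionTransfer

/-!
# Idempotents of sections descend from the completion of a henselian pair
-/

set_option autoImplicit false
set_option linter.style.haveILetI false

universe u

open IsLocalRing
open scoped TensorProduct

namespace Groth.Agent.H11LefFEt.CplIdem

variable {A : Type u} [CommRing A] {S : Type u} [CommRing S] [Algebra A S]

theorem isIntegral_of_tmul [Module.FaithfullyFlat A S] {G : Type u} [CommRing G] [Algebra A G] {g : G}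
    (h : IsIntegral S ((1 : S) ⊗ₜ[A] g : S ⊗[A] G)) : IsIntegral A g := by
  obtain ⟨p, hp, hp0⟩ := h
  let n := p.natDegree
  let q := (Submodule.span A ((fun i => g ^ i) '' (Set.Iio n))).mkQ
  have hn : q (g ^ n) = 0 := by
    refine Module.FaithfullyFlat.tensorProduct_mk_injective (A := A) (B := S) _ ?_
    show (1 : S) ⊗ₜ[A] q (g ^ n) = (1 : S) ⊗ₜ[A] 0
    rw [TensorProduct.tmul_zero]
    have h1 : ∀ i, LinearMap.lTensor S q (p.coeff i • ((1 : S) ⊗ₜ[A] g) ^ i) = p.coeff i ⊗ₜ[A] q (g ^ i) := fun i => by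
      rw [Algebra.TensorProduct.tmul_pow, one_pow, TensorProduct.smul_tmul', smul_eq_mul, mul_one, LinearMap.lTensor_tmul]
    have h2 := congrArg (LinearMap.lTensor S q) hp0
    rw [map_zero, ← Polynomial.aeval_def, Polynomial.aeval_eq_sum_range, map_sum, Finset.sum_range_succ] at h2
    rw [h1, show p.coeff p.natDegree = 1 from hp.coeff_natDegree] at h2
    rwa [Finset.sum_eq_zero fun i hi => ?_, zero_add] at h2
    rw [h1, show q (g ^ i) = 0 from (Submodule.Quotient.mk_eq_zero _).2
      (Submodule.subset_span ⟨i, Finset.mem_range.1 hi, rfl⟩), TensorProduct.tmul_zero]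
  have hmem := (Submodule.Quotient.mk_eq_zero _).1 hn
  obtain ⟨c, hc, hsum⟩ := (Finsupp.mem_span_image_iff_linearCombination A).1 hmem
  refine ⟨Polynomial.X ^ n - ∑ i ∈ c.support, Polynomial.C (c i) * Polynomial.X ^ i,
    Polynomial.monic_X_pow_sub ?_, ?_⟩
  · refine (Polynomial.degree_sum_le _ _).trans_lt ((Finset.sup_lt_iff (WithBot.bot_lt_coe n)).2 fun i hi => ?_)
    exact (Polynomial.degree_C_mul_X_pow_le i _).trans_lt (WithBot.coe_lt_coe.2 (hc hi))
  · rw [Finsupp.linearCombination_apply, Finsupp.sum] at hsum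
    simp only [Polynomial.eval₂_sub, Polynomial.eval₂_X_pow, Polynomial.eval₂_finsetSum, Polynomial.eval₂_mul,
      Polynomial.eval₂_C, ← Algebra.smul_def, hsum, sub_self]

variable [IsNoetherianRing A] [IsLocalRing A]

theorem isPowerTorsion_of_mem {X : Type u} [AddCommGroup X] [Module A X]
    (h : ∀ x : X, ∀ a ∈ maximalIdeal A, ∃ k : ℕ, a ^ k • x = 0) : LocCoh.IsPowerTorsion (maximalIdeal A) X := by
  intro x
  obtain ⟨n, hn⟩ := Ideal.exists_pow_le_of_le_radical_of_fg (I := maximalIdeal A)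
    (J := LinearMap.ker (LinearMap.toSpanSingleton A X x)) (fun a ha => (h x a ha).imp fun k hk => hk)
    (IsNoetherian.noetherian _)
  exact ⟨n, fun a ha => hn ha⟩

variable [IsLocalRing S]

theorem exists_descent (hS : H4LC.IsComplLike A S) (f : A) (hf : f ∈ maximalIdeal A)
    [HenselianRing A (Ideal.span {f})] {G G₀ : Type u} [CommRing G] [Algebra A G] [CommRing G₀] [Algebra A G₀]
    (r : G →ₐ[A] G₀) (hf0 : algebraMap A G₀ f = 0)
    (hcof : ∀ x : G, ∀ a ∈ maximalIdeal A, ∃ k : ℕ, IsIntegral A (a ^ k • x))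
    (hker : ∀ b : G, IsIntegral A b → r b = 0 → ∀ a ∈ maximalIdeal A, ∃ (k : ℕ) (c : G), IsIntegral A c ∧ a ^ k • b = f • c)
    (ε : S ⊗[A] G) (hε : IsIdempotentElem ε) (w : G₀)
    (hw : Algebra.TensorProduct.map (AlgHom.id A S) r ε = (1 : S) ⊗ₜ[A] w) :
    ∃ e : G, IsIdempotentElem e ∧ r e = w := by
  haveI := hS.flat
  haveI := hS.isLocalHom
  haveI : Module.FaithfullyFlat A S := Module.FaithfullyFlat.of_flat_of_isLocalHom
  let B := integralClosure A G
  let ι : S ⊗[A] B →ₐ[S] S ⊗[A] G := Algebra.TensorProduct.map (AlgHom.id S S) B.val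
  have hι : Function.Injective ι :=
    Module.Flat.lTensor_preserves_injective_linearMap (M := S) B.val.toLinearMap Subtype.val_injective
  haveI : Algebra.IsIntegral A B := ⟨fun x => ((isIntegral_algHom_iff B.val Subtype.val_injective).1 x.2)⟩
  haveI : Algebra.IsIntegral S (S ⊗[A] B) := Algebra.IsIntegral.tensorProduct A S B
  -- `ε` is defined on the integral closure
  obtain ⟨ε', hε'⟩ : ∃ ε' : S ⊗[A] B, ι ε' = ε := by
    let q := B.toSubmodule.mkQ
    obtain ⟨x, hx⟩ := (hS.one_tmul_bijective (X := G ⧸ B.toSubmodule) (isPowerTorsion_of_mem fun x a ha => by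
      obtain ⟨g, rfl⟩ := Submodule.Quotient.mk_surjective _ x
      exact (hcof g a ha).imp fun k hk => (Submodule.Quotient.mk_eq_zero _).2 hk)).2 (q.lTensor S ε)
    obtain ⟨g, rfl⟩ := Submodule.Quotient.mk_surjective _ x
    have hex : Function.Exact (B.val.toLinearMap.lTensor S) (q.lTensor S) :=
      lTensor_exact S (LinearMap.exact_iff.2 (by
        rw [Submodule.ker_mkQ]
        exact (Submodule.range_subtype _).symm)) (Submodule.mkQ_surjective _)
    obtain ⟨y, hy⟩ := (hex (ε - (1 : S) ⊗ₜ g)).1 (by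
      rw [map_sub, LinearMap.lTensor_tmul, ← hx]; exact sub_self _)
    have hy' : ι y = ε - (1 : S) ⊗ₜ g := hy
    have hg : IsIntegral A g := isIntegral_of_tmul (S := S) (by
      have : (1 : S) ⊗ₜ[A] g = ε - ι y := by rw [hy', sub_sub_cancel]
      rw [this]
      refine IsIntegral.sub ⟨Polynomial.X ^ 2 - Polynomial.X, by monicity!, by simp [pow_two, hε.eq]⟩ ?_
      exact (Algebra.IsIntegral.isIntegral y).map ι)
    exact ⟨y + (1 : S) ⊗ₜ (⟨g, hg⟩ : B), by rw [map_add, hy']; simp [ι, B]⟩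
  have hidem' : IsIdempotentElem ε' := hι (by rw [map_mul, hε', hε.eq])
  -- reduction modulo `f`
  let I : Ideal B := (Ideal.span {f}).map (algebraMap A B)
  let C := B ⧸ I
  let π : B →ₐ[A] C := Ideal.Quotient.mkₐ A I
  let rC : C →ₐ[A] G₀ := Ideal.Quotient.liftₐ I (r.comp B.val) (by
    have h1 : I ≤ RingHom.ker (r.comp B.val) := by
      rw [Ideal.map_le_iff_le_comap, Ideal.span_singleton_le_iff_mem, Ideal.mem_comap, RingHom.mem_ker,
        AlgHom.commutes]
      exact hf0
    exact fun a ha => h1 ha)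
  have hw' : rC.toLinearMap.lTensor S ((π.toLinearMap.lTensor S) ε') = (1 : S) ⊗ₜ[A] w := by
    rw [← hw, ← hε', ← LinearMap.lTensor_comp_apply]
    clear hw hε' hidem'
    induction ε' using TensorProduct.induction_on with
    | zero => simp
    | add x y hx hy => rw [map_add, hx, hy, map_add, map_add]
    | tmul s b => rfl
  obtain ⟨c, hc⟩ : ∃ c, rC c = w := by
    let q₀ := (LinearMap.range rC.toLinearMap).mkQ
    have h0 : q₀ w = 0 := by
      refine Module.FaithfullyFlat.tensorProduct_mk_injective (A := A) (B := S) _ ?_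
      show (1 : S) ⊗ₜ[A] q₀ w = (1 : S) ⊗ₜ[A] 0
      rw [TensorProduct.tmul_zero, ← LinearMap.lTensor_tmul, ← hw', ← LinearMap.lTensor_comp_apply,
        LinearMap.range_mkQ_comp, LinearMap.lTensor_zero, LinearMap.zero_apply]
    exact (Submodule.Quotient.mk_eq_zero _).1 h0
  obtain ⟨c', hc', hc'ε⟩ : ∃ c', rC c' = w ∧ (π.toLinearMap.lTensor S) ε' = (1 : S) ⊗ₜ[A] c' := by
    let K := LinearMap.ker rC.toLinearMap
    have hex : Function.Exact (K.subtype.lTensor S) (rC.toLinearMap.lTensor S) :=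
      Module.Flat.lTensor_exact S (LinearMap.exact_iff.2 (Submodule.range_subtype K).symm)
    obtain ⟨z, hz⟩ := (hex ((π.toLinearMap.lTensor S) ε' - (1 : S) ⊗ₜ c)).1 (by
      rw [map_sub, hw', LinearMap.lTensor_tmul, ← hc]; exact sub_self _)
    obtain ⟨k, rfl⟩ := (hS.one_tmul_bijective (X := K) (isPowerTorsion_of_mem fun x a ha => by
      obtain ⟨b, hb⟩ := Ideal.Quotient.mk_surjective x.1
      have hrb : r (b : G) = 0 := by
        have h2 : rC (Ideal.Quotient.mk I b) = 0 := by rw [hb]; exact x.2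
        exact h2
      obtain ⟨k, d, hd, hkd⟩ := hker b ((isIntegral_algHom_iff B.val Subtype.val_injective).2
        (Algebra.IsIntegral.isIntegral b)) hrb a ha
      refine ⟨k, Subtype.ext ?_⟩
      rw [Submodule.coe_smul, ← hb, Submodule.coe_zero, ← Ideal.Quotient.mkₐ_eq_mk A, ← map_smul,
        Ideal.Quotient.mkₐ_eq_mk, Ideal.Quotient.eq_zero_iff_mem]
      have : a ^ k • b = algebraMap A B f * ⟨d, hd⟩ := Subtype.ext (by
        rw [MulMemClass.coe_mul, SetLike.val_smul, hkd, Algebra.smul_def]; rfl)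
      rw [this]
      exact Ideal.mul_mem_right _ _ (Ideal.mem_map_of_mem _ (Ideal.mem_span_singleton_self f)))).2 z
    refine ⟨c + k.1, ?_, ?_⟩
    · rw [map_add, hc, show rC k.1 = 0 from k.2, add_zero]
    · rw [TensorProduct.tmul_add, ← sub_eq_iff_eq_add', ← hz]; rfl
  have hidem_c : c' * c' = c' := by
    refine Module.FaithfullyFlat.tensorProduct_mk_injective (A := A) (B := S) C ?_
    show (1 : S) ⊗ₜ[A] (c' * c') = (1 : S) ⊗ₜ[A] c'
    have h1 := congrArg (Algebra.TensorProduct.map (AlgHom.id A S) π) hidem'.eq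
    rw [map_mul] at h1
    rw [← hc'ε]
    refine Eq.trans ?_ h1
    show _ = (π.toLinearMap.lTensor S) ε' * (π.toLinearMap.lTensor S) ε'
    rw [hc'ε, Algebra.TensorProduct.tmul_mul_tmul, one_mul]
  obtain ⟨b, rfl⟩ := Ideal.Quotient.mk_surjective c'
  obtain ⟨e, he, heb⟩ := H9Hens.exists_idem_lift_integral (I := Ideal.span {f}) b
    (Ideal.Quotient.eq_zero_iff_mem.1 (by rw [map_sub, map_mul, hidem_c, sub_self]))
  refine ⟨e, he.map B.val, ?_⟩
  rw [← hc']
  show rC (Ideal.Quotient.mk I e) = _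
  rw [Ideal.Quotient.eq.2 heb]

end Groth.Agent.H11LefFEt.CplIdem
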