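import Mathlib
import Groth.Prelude.Def_FEt
import Groth.Agent.H18Et.FEtRestrict
import Groth.Agent.H18Et.FEtRestrictGamma
import Groth.Agent.H05EGA4.LefConn

/-!
# Full or faithful restriction controls clopens
-/

set_option autoImplicit false
set_option linter.style.haveILetI false
set_option backward.isDefEq.respectTransparency false

universe u

open CategoryTheory CategoryTheory.Limits AlgebraicGeometry Opposite TopologicalSpace

namespace Groth.Agent.H11LefFEt.FullClopens

variable {A : Type u} [CommRing A]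

/-- Two copies of the base. -/
noncomputable abbrev two (A : Type u) [CommRing A] : Spec (CommRingCat.of (Fin 2 → A)) ⟶ Spec (CommRingCat.of A) :=
  Spec.map (CommRingCat.ofHom (algebraMap A (Fin 2 → A)))

theorem two_prop : FEt.prop (two A) := by
  refine ⟨?_, ?_⟩
  · rw [IsFinite.SpecMap_iff]
    exact RingHom.finite_algebraMap.2 inferInstance
  · rw [HasRingHomProperty.Spec_iff (P := @Etale)]
    exact RingHom.etale_algebraMap.2 inferInstance

variable {X Y : Scheme.{u}}

/-- The double cover of `Y`. -/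
noncomputable def cover (b : Y ⟶ Spec (CommRingCat.of A)) : FEt.Cat Y :=
  MorphismProperty.Over.mk ⊤ (pullback.snd (two A) b) (MorphismProperty.pullback_snd _ _ two_prop)

/-- The first copy, as a function. -/
noncomputable def first (A : Type u) [CommRing A] : Γ(Spec (CommRingCat.of (Fin 2 → A)), ⊤) :=
  (Scheme.ΓSpecIso (CommRingCat.of (Fin 2 → A))).inv (Pi.single 0 1 : Fin 2 → A)

theorem exists_hom {T : Scheme.{u}} (t : T ⟶ Spec (CommRingCat.of A)) {e : Γ(T, ⊤)} (he : IsIdempotentElem e) :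
    ∃ χ : T ⟶ Spec (CommRingCat.of (Fin 2 → A)), χ ≫ two A = t ∧ χ.appTop (first A) = e := by
  letI : Algebra A Γ(T, ⊤) := (t.appTop.hom.comp (Scheme.ΓSpecIso (CommRingCat.of A)).inv.hom).toAlgebra
  have he' : e * e = e := he
  let ψ : (Fin 2 → A) →+* Γ(T, ⊤) :=
    { toFun := fun x => algebraMap A Γ(T, ⊤) (x 0) * e + algebraMap A Γ(T, ⊤) (x 1) * (1 - e)
      map_one' := by simp
      map_zero' := by simp
      map_add' := fun x y => by simp [map_add]; ring
      map_mul' := fun x y => by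
        simp only [Pi.mul_apply, map_mul]
        linear_combination (algebraMap A Γ(T, ⊤) (x 0) * algebraMap A Γ(T, ⊤) (y 1) +
          algebraMap A Γ(T, ⊤) (x 1) * algebraMap A Γ(T, ⊤) (y 0) - algebraMap A Γ(T, ⊤) (x 0) * algebraMap A Γ(T, ⊤) (y 0) -
          algebraMap A Γ(T, ⊤) (x 1) * algebraMap A Γ(T, ⊤) (y 1)) * he' }
  have h1 : ψ.comp (algebraMap A (Fin 2 → A)) = algebraMap A Γ(T, ⊤) := RingHom.ext fun c => by
    show algebraMap A Γ(T, ⊤) c * e + algebraMap A Γ(T, ⊤) c * (1 - e) = _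
    ring
  refine ⟨T.toSpecΓ ≫ Spec.map (CommRingCat.ofHom ψ), ?_, ?_⟩
  · rw [Category.assoc, ← Spec.map_comp, ← CommRingCat.ofHom_comp, h1]
    refine ext_of_isAffine ?_
    rw [Scheme.Hom.comp_appTop, Scheme.toSpecΓ_appTop, Scheme.ΓSpecIso_naturality]
    ext c
    show algebraMap A Γ(T, ⊤) ((Scheme.ΓSpecIso (CommRingCat.of A)).hom c) = _
    exact congrArg t.appTop ((Scheme.ΓSpecIso (CommRingCat.of A)).hom_inv_id_apply c)
  · rw [first, Scheme.Hom.comp_appTop, ConcreteCategory.comp_apply, Scheme.toSpecΓ_appTop,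
      ← ConcreteCategory.comp_apply (Spec.map _).appTop, Scheme.ΓSpecIso_naturality, ConcreteCategory.comp_apply,
      Iso.inv_hom_id_apply]
    show algebraMap A Γ(T, ⊤) ((Pi.single 0 1 : Fin 2 → A) 0) * e + algebraMap A Γ(T, ⊤) ((Pi.single 0 1 : Fin 2 → A) 1) * (1 - e) = e
    simp

theorem isClopen_first {T : Scheme.{u}} (χ : T ⟶ Spec (CommRingCat.of (Fin 2 → A))) :
    IsClopen (T.basicOpen (χ.appTop (first A)) : Set T) :=
  H18Et.FEtRestrictGamma.isClopen_basicOpen (X := T) _ (by
    show IsIdempotentElem _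
    refine IsIdempotentElem.map ?_ χ.appTop.hom
    refine IsIdempotentElem.map ?_ (Scheme.ΓSpecIso (CommRingCat.of (Fin 2 → A))).inv.hom
    show (Pi.single 0 1 : Fin 2 → A) * Pi.single 0 1 = Pi.single 0 1
    rw [← Pi.single_mul, one_mul])

variable (b : Y ⟶ Spec (CommRingCat.of A)) (f : X ⟶ Y)

include b in
theorem clopensDescend_of_full (hfull : (FEt.restrict f).Full) : H18Et.FEtRestrict.ClopensDescend f := by
  intro P W' hW'
  let R := FEt.restrict f
  obtain ⟨e', he', heW⟩ := H18Et.FEtRestrictGamma.exists_idempotent_of_isClopen W' hW'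
  obtain ⟨χ, hχ1, hχ2⟩ := exists_hom (A := A) (pullback.fst P.hom f ≫ P.hom ≫ b) he'
  let l : pullback P.hom f ⟶ pullback (pullback.snd (two A) b) f :=
    pullback.lift (pullback.lift χ (pullback.snd P.hom f ≫ f) (by rw [hχ1, pullback.condition_assoc, Category.assoc]))
      (pullback.snd P.hom f) (by rw [pullback.lift_snd])
  let ψ : R.obj P ⟶ R.obj (cover b) := MorphismProperty.Over.homMk l (pullback.lift_snd _ _ _)
  let φ := hfull.map_surjective ψ |>.choose
  have hφ : R.map φ = ψ := (hfull.map_surjective ψ).choose_spec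
  let Φ : P.left ⟶ Spec (CommRingCat.of (Fin 2 → A)) := φ.left ≫ pullback.fst (two A) b
  refine ⟨_, isClopen_first Φ, ?_⟩
  have h2 : pullback.fst P.hom f ≫ Φ = χ := by
    have hl : (R.map φ).left = l := congrArg (fun k => k.left) hφ
    have h3 := H18Et.FEtRestrict.map_left_fst f φ
    rw [hl] at h3
    show pullback.fst P.hom f ≫ φ.left ≫ pullback.fst (two A) b = χ
    rw [← Category.assoc]
    refine (congrArg (· ≫ pullback.fst (two A) b) h3.symm).trans ?_
    show (l ≫ pullback.fst (pullback.snd (two A) b) f) ≫ pullback.fst (two A) b = χ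
    rw [pullback.lift_fst, pullback.lift_fst]
  refine Eq.trans ?_ heW
  have h4 : (pullback.fst P.hom f).appTop (Φ.appTop (first A)) = e' := by
    exact (congrArg (fun k => Scheme.Hom.appTop k (first A)) h2).trans hχ2
  exact congrArg SetLike.coe ((Scheme.preimage_basicOpen_top (pullback.fst P.hom f) _).trans
    (congrArg (fun t => (pullback P.hom f).basicOpen t) h4))

include b in
theorem meetsClopens_of_faithful (hff : (FEt.restrict f).Faithful) : H18Et.FEtRestrict.MeetsClopens f := by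
  intro W hW hne
  by_contra hemp
  let R := FEt.restrict f
  let P : FEt.Cat Y := MorphismProperty.Over.mk ⊤ (𝟙 Y) (FEt.prop.id_mem Y)
  obtain ⟨e, he, heW⟩ := H18Et.FEtRestrictGamma.exists_idempotent_of_isClopen W hW
  obtain ⟨χ, hχ1, hχ2⟩ := exists_hom (A := A) b he
  obtain ⟨χ₀, hχ₀1, hχ₀2⟩ := exists_hom (A := A) b (IsIdempotentElem.zero : IsIdempotentElem (0 : Γ(Y, ⊤)))
  let mk' : ∀ χ : Y ⟶ Spec (CommRingCat.of (Fin 2 → A)), χ ≫ two A = b → (P ⟶ cover b) := fun χ h =>
    MorphismProperty.Over.homMk (pullback.lift χ (𝟙 Y) (by rw [h]; exact (Category.id_comp b).symm))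
      (pullback.lift_snd _ _ _)
  have hf0 : f.appTop e = f.appTop 0 := by
    have h1 : X.basicOpen (f.appTop e) = X.basicOpen (f.appTop 0) := by
      rw [← Scheme.preimage_basicOpen_top, ← Scheme.preimage_basicOpen_top, Scheme.basicOpen_zero]
      ext z
      show f z ∈ (Y.basicOpen e : Set Y) ↔ f z ∈ (∅ : Set Y)
      rw [heW]
      exact ⟨fun h => hemp ⟨_, h, z, rfl⟩, fun h => h.elim⟩
    exact H05EGA4.LefConn.idem_ext ((show IsIdempotentElem e from he).map f.appTop.hom) (IsIdempotentElem.zero.map f.appTop.hom) (congrArg SetLike.coe h1)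
  have hfχ : f ≫ χ = f ≫ χ₀ := by
    refine ext_of_isAffine ?_
    rw [Scheme.Hom.comp_appTop, Scheme.Hom.comp_appTop]
    have key : ∀ χ' : Y ⟶ Spec (CommRingCat.of (Fin 2 → A)), χ' ≫ two A = b → ∀ x : Fin 2 → A,
        χ'.appTop ((Scheme.ΓSpecIso (CommRingCat.of (Fin 2 → A))).inv x) =
          χ'.appTop (first A) * b.appTop ((Scheme.ΓSpecIso (CommRingCat.of A)).inv (x 0)) +
          (1 - χ'.appTop (first A)) * b.appTop ((Scheme.ΓSpecIso (CommRingCat.of A)).inv (x 1)) := fun χ' h x => by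
      let θ : (Fin 2 → A) →+* Γ(Y, ⊤) := χ'.appTop.hom.comp (Scheme.ΓSpecIso (CommRingCat.of (Fin 2 → A))).inv.hom
      have hθ : ∀ c : A, θ (algebraMap A (Fin 2 → A) c) = b.appTop ((Scheme.ΓSpecIso (CommRingCat.of A)).inv c) := fun c => by
        rw [← h, Scheme.Hom.comp_appTop]
        show χ'.appTop _ = χ'.appTop ((two A).appTop _)
        congr 1
        exact congr($(Scheme.ΓSpecIso_inv_naturality (CommRingCat.ofHom (algebraMap A (Fin 2 → A)))) c)
      show θ x = θ (Pi.single 0 1) * _ + (1 - θ (Pi.single 0 1)) * _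
      rw [← hθ, ← hθ, ← map_one θ, ← map_sub, ← map_mul, ← map_mul, ← map_add]
      congr 1
      funext i
      fin_cases i <;> simp
    ext y
    obtain ⟨x, rfl⟩ : ∃ x : Fin 2 → A, (Scheme.ΓSpecIso (CommRingCat.of (Fin 2 → A))).inv x = y :=
      ⟨(Scheme.ΓSpecIso (CommRingCat.of (Fin 2 → A))).hom y, (Scheme.ΓSpecIso (CommRingCat.of (Fin 2 → A))).hom_inv_id_apply y⟩
    show f.appTop (χ.appTop _) = f.appTop (χ₀.appTop _)
    rw [key χ hχ1, key χ₀ hχ₀1, hχ2, hχ₀2]
    simp only [map_add, map_mul, map_sub, map_one, hf0]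
  have heq : R.map (mk' χ hχ1) = R.map (mk' χ₀ hχ₀1) := by
    apply MorphismProperty.Over.Hom.ext
    refine pullback.hom_ext ?_ ?_
    · refine (H18Et.FEtRestrict.map_left_fst f _).trans (Eq.trans ?_ (H18Et.FEtRestrict.map_left_fst f _).symm)
      show pullback.fst (𝟙 Y) f ≫ pullback.lift χ (𝟙 Y) _ = pullback.fst (𝟙 Y) f ≫ pullback.lift χ₀ (𝟙 Y) _
      refine pullback.hom_ext ?_ (by rw [Category.assoc, Category.assoc, pullback.lift_snd, pullback.lift_snd])
      rw [Category.assoc, Category.assoc, pullback.lift_fst, pullback.lift_fst,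
        ← Category.comp_id (pullback.fst (𝟙 Y) f), pullback.condition, Category.assoc, Category.assoc, hfχ]
    · exact (MorphismProperty.Over.w (R.map (mk' χ hχ1))).trans (MorphismProperty.Over.w (R.map (mk' χ₀ hχ₀1))).symm
  have h4 := congrArg (fun k => k.left ≫ pullback.fst (two A) b) (hff.map_injective heq)
  have h5 : χ = χ₀ := by simpa [mk'] using h4
  have h6 : e = 0 := hχ2.symm.trans ((congrArg (fun k => k.appTop (first A)) h5).trans hχ₀2)
  rw [h6, Scheme.basicOpen_zero] at heW
  exact hne.ne_empty heW.symm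

end Groth.Agent.H11LefFEt.FullClopens
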