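import Groth.Agent.H11LefFEt.CplSections
import Groth.Agent.H11LefFEt.CplIdem
import Groth.Agent.H11LefFEt.FullClopens
import Groth.Agent.H05EGA4.LefConn

/-!
# Full faithfulness descends from the completion of a henselian pair
-/

set_option autoImplicit false
set_option linter.style.haveILetI false
set_option backward.isDefEq.respectTransparency false

universe u

open CategoryTheory CategoryTheory.Limits AlgebraicGeometry Opposite TopologicalSpace
open scoped TensorProduct
open Groth.Agent.H11LefFEt.CplSections (ρ)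

namespace Groth.Agent.H11LefFEt.CplDescent

variable {A : Type u} [CommRing A] [IsNoetherianRing A] [IsLocalRing A]
  {S : Type u} [CommRing S] [IsLocalRing S] [Algebra A S] {f : A}

theorem clopensDescend (hS : H4LC.IsComplLike A S) (hf : f ∈ IsLocalRing.maximalIdeal A)
    [HenselianRing A (Ideal.span {f})] (U : (Spec (CommRingCat.of A)).Opens)
    (hU : ∀ a ∈ IsLocalRing.maximalIdeal A, PrimeSpectrum.basicOpen a ≤ U)
    (h : H18Et.FEtRestrict.ClopensDescend
      (pullback.fst (pullback.fst U.ι (Spec.map (CommRingCat.ofHom (algebraMap A S))))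
        (pullback.fst U.ι (Spec.map (CommRingCat.ofHom (Ideal.Quotient.mk (Ideal.span {f}))))))) :
    H18Et.FEtRestrict.ClopensDescend
      (pullback.fst U.ι (Spec.map (CommRingCat.ofHom (Ideal.Quotient.mk (Ideal.span {f}))))) := by
  haveI := hS.flat
  intro V W' hW'
  let φ := Spec.map (CommRingCat.ofHom (algebraMap A S))
  let q := Spec.map (CommRingCat.ofHom (Ideal.Quotient.mk (Ideal.span {f})))
  let j := pullback.fst U.ι q
  let gU := pullback.fst U.ι φ
  let j' := pullback.fst gU j
  haveI : IsClosedImmersion q := IsClosedImmersion.spec_of_surjective _ Ideal.Quotient.mk_surjective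
  haveI : IsFinite V.hom := V.prop.1
  haveI : IsNoetherianRing ↑(CommRingCat.of A) := ‹IsNoetherianRing A›
  haveI : CompactSpace (U : Scheme.{u}) := isCompact_iff_compactSpace.1 (TopologicalSpace.NoetherianSpace.isCompact _)
  haveI : CompactSpace V.left := QuasiCompact.compactSpace_of_compactSpace (Y := (U : Scheme.{u})) V.hom
  haveI : QuasiSeparatedSpace V.left := quasiSeparatedSpace_of_quasiSeparated (V.hom ≫ U.ι)
  haveI : CompactSpace ↥((𝟭 Scheme.{u}).obj V.left) := ‹CompactSpace V.left›
  haveI : QuasiSeparatedSpace ↥((𝟭 Scheme.{u}).obj V.left) := ‹QuasiSeparatedSpace V.left›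
  let T := pullback V.hom j
  let k : T ⟶ V.left := pullback.fst V.hom j
  haveI : CompactSpace T := QuasiCompact.compactSpace_of_compactSpace k
  haveI : QuasiSeparatedSpace T := quasiSeparatedSpace_of_quasiSeparated k
  let g : V.left ⟶ Spec (CommRingCat.of A) := V.hom ≫ U.ι
  have HT : IsPullback k (pullback.snd V.hom j ≫ pullback.snd U.ι q) g q :=
    (IsPullback.of_hasPullback V.hom j).paste_vert (IsPullback.of_hasPullback U.ι q)
  let V' := (FEt.restrict gU).obj V
  let p : V'.left ⟶ V.left := pullback.fst V.hom gU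
  have HV : IsPullback p (V'.hom ≫ pullback.snd U.ι φ) g φ :=
    (IsPullback.of_hasPullback V.hom gU).paste_vert (IsPullback.of_hasPullback U.ι φ)
  let T' := pullback V'.hom j'
  let k' : T' ⟶ V'.left := pullback.fst V'.hom j'
  let m : T' ⟶ T := pullback.lift (k' ≫ p) (pullback.snd V'.hom j' ≫ pullback.snd gU j) (by
    rw [Category.assoc, Category.assoc, ← pullback.condition (f := gU) (g := j),
      ← pullback.condition_assoc (f := V'.hom) (g := j')]
    exact congrArg (k' ≫ ·) pullback.condition)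
  have hmk : m ≫ k = k' ≫ p := pullback.lift_fst _ _ _
  -- base change of `T`
  have Htop : IsPullback k' m p k := by
    refine IsPullback.of_bot ?_ hmk.symm (IsPullback.of_hasPullback V.hom j)
    rw [show m ≫ pullback.snd V.hom j = pullback.snd V'.hom j' ≫ pullback.snd gU j from pullback.lift_snd _ _ _,
      show p ≫ V.hom = V'.hom ≫ gU from pullback.condition]
    exact (IsPullback.of_hasPullback V'.hom j').paste_vert (IsPullback.of_hasPullback gU j)
  have HT' : IsPullback m (k' ≫ V'.hom ≫ pullback.snd U.ι φ) (k ≫ g) φ := Htop.flip.paste_vert HV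
  obtain ⟨w, hw, hwW⟩ := H18Et.FEtRestrictGamma.exists_idempotent_of_isClopen W' hW'
  obtain ⟨W₁, hW₁, hW₁m⟩ := h V' (m ⁻¹' W') (hW'.preimage m.continuous)
  obtain ⟨ε₀, hε₀, hε₀W⟩ := H18Et.FEtRestrictGamma.exists_idempotent_of_isClopen W₁ hW₁
  letI algG : Algebra A Γ(V.left, ⊤) := (ρ g).toAlgebra
  letI algT : Algebra A Γ(T, ⊤) := (ρ (k ≫ g)).toAlgebra
  let r : Γ(V.left, ⊤) →ₐ[A] Γ(T, ⊤) := { k.appTop.hom with commutes' := fun c => rfl }
  obtain ⟨ΦV, hΦV, hΦV'⟩ := CplSections.exists_baseChange (g := g) HV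
  obtain ⟨ΦT, hΦT, hΦT'⟩ := CplSections.exists_baseChange (g := k ≫ g) HT'
  obtain ⟨ε, hε⟩ := hΦV.2 ε₀
  have hnat : ∀ z, ΦT (Algebra.TensorProduct.map (AlgHom.id A S) r z) = k'.appTop (ΦV z) := fun z => by
    induction z using TensorProduct.induction_on with
    | zero => simp
    | add x y hx hy => simp [map_add, hx, hy]
    | tmul c x =>
      rw [Algebra.TensorProduct.map_tmul, hΦV', map_mul]
      refine (hΦT' _ _).trans ?_
      congr 1
      exact congr($(congrArg Scheme.Hom.appTop hmk) x)
  have hfT : algebraMap A Γ(T, ⊤) f = 0 := by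
    show ρ (k ≫ g) f = 0
    rw [show k ≫ g = (pullback.snd V.hom j ≫ pullback.snd U.ι q) ≫ q from HT.w]
    show (pullback.snd V.hom j ≫ pullback.snd U.ι q).appTop (q.appTop ((Scheme.ΓSpecIso (CommRingCat.of A)).inv f)) = 0
    rw [show q.appTop ((Scheme.ΓSpecIso (CommRingCat.of A)).inv f) =
      (Scheme.ΓSpecIso (CommRingCat.of (A ⧸ Ideal.span {f}))).inv (Ideal.Quotient.mk _ f) from
      (congr($(Scheme.ΓSpecIso_inv_naturality (CommRingCat.ofHom (Ideal.Quotient.mk (Ideal.span {f})))) f)).symm,
      Ideal.Quotient.eq_zero_iff_mem.2 (Ideal.mem_span_singleton_self f), map_zero, map_zero]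
  obtain ⟨e, he, hre⟩ := CplIdem.exists_descent hS f hf r hfT
    (fun x a ha => CplSections.exists_integral V.hom (hU a ha) x)
    (fun b hb hb0 a ha => by
      obtain ⟨l, z', hz⟩ := CplSections.exists_eq_smul_of_app_eq_zero V.hom (hU a ha) HT b hb0
      let z : Γ(V.left, ⊤) := z'
      obtain ⟨n, hn⟩ := CplSections.exists_integral V.hom (hU a ha) z
      refine ⟨n + l, a ^ n • z, hn, ?_⟩
      rw [pow_add, mul_smul, smul_comm f (a ^ n) z]
      congr 1
      rw [Algebra.smul_def, Algebra.smul_def, map_pow]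
      exact hz)
    ε (hΦV.1 (by rw [map_mul, hε]; exact hε₀)) w (hΦT.1 (by
      rw [hnat, hε, hΦT', map_one, one_mul]
      refine H05EGA4.LefConn.idem_ext ((show IsIdempotentElem ε₀ from hε₀).map k'.appTop.hom)
        ((show IsIdempotentElem w from hw).map m.appTop.hom) ?_
      refine ((congrArg SetLike.coe (Scheme.preimage_basicOpen_top k' ε₀)).symm.trans ?_).trans
        (congrArg SetLike.coe (Scheme.preimage_basicOpen_top m w))
      show k' ⁻¹' (V'.left.basicOpen ε₀ : Set V'.left) = m ⁻¹' (T.basicOpen w : Set T)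
      exact (congrArg (k' ⁻¹' ·) hε₀W).trans (hW₁m.trans (congrArg (m ⁻¹' ·) hwW).symm)))
  refine ⟨V.left.basicOpen (e : Γ(V.left, ⊤)), H18Et.FEtRestrictGamma.isClopen_basicOpen e he, ?_⟩
  refine Eq.trans ?_ hwW
  exact congrArg SetLike.coe ((Scheme.preimage_basicOpen_top k e).trans (congrArg (fun t => T.basicOpen t) hre))

end Groth.Agent.H11LefFEt.CplDescent
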