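import Groth.Agent.H28Pinch.CohFlat
import Groth.Prelude.Def_FEt

/-!
# Global sections of covers of opens of `Spec A`
-/

set_option autoImplicit false
set_option linter.style.haveILetI false
set_option backward.isDefEq.respectTransparency false

universe u

open CategoryTheory CategoryTheory.Limits AlgebraicGeometry Opposite TopologicalSpace
open scoped TensorProduct

namespace Groth.Agent.H11LefFEt.CplSections

variable {A : Type u} [CommRing A]

/-- The structure map on global sections. -/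
noncomputable abbrev ρ {X : Scheme.{u}} (g : X ⟶ Spec (CommRingCat.of A)) : A →+* Γ(X, ⊤) :=
  g.appTop.hom.comp (Scheme.ΓSpecIso (CommRingCat.of A)).inv.hom

theorem ρ_comp {X Y : Scheme.{u}} (h : Y ⟶ X) (g : X ⟶ Spec (CommRingCat.of A)) (a : A) :
    h.appTop (ρ g a) = ρ (h ≫ g) a := rfl

theorem basicOpen_ρ {X : Scheme.{u}} (g : X ⟶ Spec (CommRingCat.of A)) (a : A) :
    X.basicOpen (ρ g a) = g ⁻¹ᵁ (PrimeSpectrum.basicOpen a) := by
  rw [show (PrimeSpectrum.basicOpen a : (Spec (CommRingCat.of A)).Opens) =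
    (Spec (CommRingCat.of A)).basicOpen ((Scheme.ΓSpecIso (CommRingCat.of A)).inv a) from
    (basicOpen_eq_of_affine (R := CommRingCat.of A) a).symm, Scheme.preimage_basicOpen_top]
  rfl

section Loc

variable {X : Scheme.{u}} [CompactSpace X] [QuasiSeparatedSpace X]

theorem exists_pow_mul_eq_zero (t x : Γ(X, ⊤)) (W : X.Opens) (hW : W = X.basicOpen t)
    (h : X.presheaf.map (homOfLE (le_top : W ≤ ⊤)).op x = 0) : ∃ l : ℕ, t ^ l * x = 0 := by
  subst hW
  haveI := isLocalization_basicOpen_of_qcqs (X := X) (U := ⊤) CompactSpace.isCompact_univ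
    isQuasiSeparated_univ t
  obtain ⟨⟨_, l, rfl⟩, hl⟩ := (IsLocalization.map_eq_zero_iff (Submonoid.powers t) Γ(X, X.basicOpen t) x).1 h
  exact ⟨l, hl⟩

theorem exists_res_eq (t : Γ(X, ⊤)) (W : X.Opens) (hW : W = X.basicOpen t) (y : Γ(X, W)) :
    ∃ (s : ℕ) (x : Γ(X, ⊤)), X.presheaf.map (homOfLE (le_top : W ≤ ⊤)).op x =
      X.presheaf.map (homOfLE (le_top : W ≤ ⊤)).op t ^ s * y := by
  subst hW
  haveI := isLocalization_basicOpen_of_qcqs (X := X) (U := ⊤) CompactSpace.isCompact_univ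
    isQuasiSeparated_univ t
  obtain ⟨⟨x, _, s, rfl⟩, hs⟩ := IsLocalization.surj (Submonoid.powers t) y
  refine ⟨s, x, ?_⟩
  rw [mul_comm, ← map_pow]
  exact hs.symm

end Loc

section Cover

variable {U : (Spec (CommRingCat.of A)).Opens} {V : Scheme.{u}} (π : V ⟶ (U : Scheme.{u})) [IsFinite π]

theorem isAffineOpen_preimage {a : A} (ha : PrimeSpectrum.basicOpen a ≤ U) :
    IsAffineOpen ((π ≫ U.ι) ⁻¹ᵁ (PrimeSpectrum.basicOpen a : (Spec (CommRingCat.of A)).Opens)) := by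
  have hD : IsAffineOpen (X := Spec (CommRingCat.of A)) (PrimeSpectrum.basicOpen a) := by
    rw [show (PrimeSpectrum.basicOpen a : (Spec (CommRingCat.of A)).Opens) =
      (Spec (CommRingCat.of A)).basicOpen ((Scheme.ΓSpecIso (CommRingCat.of A)).inv a) from
      (basicOpen_eq_of_affine (R := CommRingCat.of A) a).symm]
    exact (isAffineOpen_top _).basicOpen _
  exact (hD.preimage_of_isOpenImmersion U.ι (ha.trans U.opensRange_ι.ge)).preimage π

variable [CompactSpace V] [QuasiSeparatedSpace V]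

/-- Sections of a cover become integral after multiplication by powers of `a` when `D(a) ⊆ U`. -/
theorem exists_integral {a : A} (ha : PrimeSpectrum.basicOpen a ≤ U) (x : Γ(V, ⊤)) :
    letI := (ρ (π ≫ U.ι)).toAlgebra
    ∃ k : ℕ, IsIntegral A (a ^ k • x) := by
  let g := π ≫ U.ι
  let D : (Spec (CommRingCat.of A)).Opens := PrimeSpectrum.basicOpen a
  let Vo : V.Opens := g ⁻¹ᵁ D
  have hD : IsAffineOpen D := by
    rw [show D = (Spec (CommRingCat.of A)).basicOpen ((Scheme.ΓSpecIso (CommRingCat.of A)).inv a) from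
      (basicOpen_eq_of_affine (R := CommRingCat.of A) a).symm]
    exact (isAffineOpen_top _).basicOpen _
  have hD' : IsAffineOpen (U.ι ⁻¹ᵁ D) :=
    hD.preimage_of_isOpenImmersion U.ι (ha.trans U.opensRange_ι.ge)
  haveI : IsIso (U.ι.app D) := U.ι.isIso_app D (ha.trans U.opensRange_ι.ge)
  have hfin : (g.app D).hom.Finite := by
    have h1 : (g.app D).hom = (π.app (U.ι ⁻¹ᵁ D)).hom.comp (U.ι.app D).hom := rfl
    rw [h1]
    exact (IsFinite.finite_app π (U.ι ⁻¹ᵁ D) hD').comp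
      (RingHom.Finite.of_surjective _ (ConcreteCategory.bijective_of_isIso (U.ι.app D)).2)
  let R := Γ(V, Vo)
  letI : Algebra A Γ(Spec (CommRingCat.of A), D) := StructureSheaf.openAlgebra A (op D)
  haveI : IsLocalization.Away a Γ(Spec (CommRingCat.of A), D) :=
    StructureSheaf.IsLocalization.to_basicOpen A a
  letI algR : Algebra A R := ((g.app D).hom.comp (algebraMap A Γ(Spec (CommRingCat.of A), D))).toAlgebra
  letI : Algebra Γ(Spec (CommRingCat.of A), D) R := (g.app D).hom.toAlgebra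
  haveI : IsScalarTower A Γ(Spec (CommRingCat.of A), D) R := IsScalarTower.of_algebraMap_eq fun _ => rfl
  haveI : Module.Finite Γ(Spec (CommRingCat.of A), D) R := hfin
  letI algG : Algebra A Γ(V, ⊤) := (ρ g).toAlgebra
  show ∃ k : ℕ, IsIntegral A (a ^ k • x)
  let res : Γ(V, ⊤) →ₐ[A] R :=
    { (V.presheaf.map (homOfLE (le_top : Vo ≤ ⊤)).op).hom with
      commutes' := fun c => by
        show V.presheaf.map _ (g.app ⊤ ((Scheme.ΓSpecIso (CommRingCat.of A)).inv c)) = g.app D _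
        exact (congr($(g.naturality (homOfLE (le_top : D ≤ ⊤)).op) _)).symm }
  obtain ⟨⟨_, k, rfl⟩, hk⟩ := IsIntegral.exists_multiple_integral_of_isLocalization
    (Submonoid.powers a) (Rₘ := Γ(Spec (CommRingCat.of A), D)) (res x)
    (Algebra.IsIntegral.isIntegral (R := Γ(Spec (CommRingCat.of A), D)) (res x))
  obtain ⟨p, hp, hp0⟩ : IsIntegral A (res (a ^ k • x)) := by rw [map_smul]; exact hk
  rw [← Polynomial.aeval_def, Polynomial.aeval_algHom_apply] at hp0
  obtain ⟨l, hl⟩ := exists_pow_mul_eq_zero (ρ g a) _ Vo (basicOpen_ρ g a).symm hp0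
  by_cases hl0 : l = 0
  · exact ⟨k, p, hp, by rw [← Polynomial.aeval_def]; simpa [hl0] using hl⟩
  by_cases hn : p.natDegree = 0
  · refine ⟨l, ?_⟩
    rw [Polynomial.Monic.natDegree_eq_zero hp |>.1 hn, map_one, mul_one] at hl
    rw [Algebra.smul_def, map_pow, show algebraMap A Γ(V, ⊤) a = ρ g a from rfl, hl, zero_mul]
    exact isIntegral_zero
  refine ⟨l + k, p.scaleRoots (a ^ l), (Polynomial.monic_scaleRoots_iff _).2 hp, ?_⟩
  rw [Algebra.smul_def, pow_add, map_mul, mul_assoc, ← Algebra.smul_def (a ^ k) x, Polynomial.scaleRoots_eval₂_mul,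
    map_pow, ← Polynomial.aeval_def]
  obtain ⟨d, hd⟩ := Nat.exists_eq_succ_of_ne_zero hn
  rw [hd, pow_succ, mul_assoc, show algebraMap A Γ(V, ⊤) a = ρ g a from rfl, hl, mul_zero]

theorem exists_eq_smul_of_app_eq_zero {a f : A} (ha : PrimeSpectrum.basicOpen a ≤ U) {T : Scheme.{u}} {k : T ⟶ V}
    {t : T ⟶ Spec (CommRingCat.of (A ⧸ Ideal.span {f}))}
    (H : IsPullback k t (π ≫ U.ι) (Spec.map (CommRingCat.ofHom (Ideal.Quotient.mk (Ideal.span {f})))))
    (x : Γ(V, ⊤)) (hx : k.appTop x = 0) :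
    ∃ (m : ℕ) (z : Γ(V, ⊤)), ρ (π ≫ U.ι) a ^ m * x = ρ (π ≫ U.ι) f * z := by
  let g := π ≫ U.ι
  let Vo : V.Opens := g ⁻¹ᵁ (PrimeSpectrum.basicOpen a)
  let R := Γ(V, Vo)
  let q := Spec.map (CommRingCat.ofHom (Ideal.Quotient.mk (Ideal.span {f})))
  let y : R := V.presheaf.map (homOfLE (le_top : Vo ≤ ⊤)).op x
  let fR : R := V.presheaf.map (homOfLE (le_top : Vo ≤ ⊤)).op (ρ g f)
  have hy : k.app Vo y = 0 := by
    show k.app Vo (V.presheaf.map _ x) = 0
    rw [← ConcreteCategory.comp_apply, k.naturality, ConcreteCategory.comp_apply,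
      show k.app ⊤ x = 0 from hx, map_zero]
  have hpo := (isIso_pushoutSection_iff H (US := ⊤) (UT := ⊤) (UX := Vo) (UY := k ⁻¹ᵁ Vo) le_top le_top (by simp)).mp
    (isIso_pushoutSection_of_isAffineOpen H _ _ _ (isAffineOpen_top _) (isAffineOpen_top _) (isAffineOpen_preimage π ha))
  let μ : R →+* R ⧸ Ideal.span {fR} := Ideal.Quotient.mk _
  let ψ : A →+* R ⧸ Ideal.span {fR} :=
    μ.comp ((g.appLE ⊤ Vo le_top).hom.comp (Scheme.ΓSpecIso (CommRingCat.of A)).inv.hom)
  have hψ : ∀ c ∈ Ideal.span {f}, ψ c = 0 := fun c hc => by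
    obtain ⟨d, rfl⟩ := Ideal.mem_span_singleton'.1 hc
    rw [map_mul]
    refine mul_eq_zero_of_right _ ?_
    refine Ideal.Quotient.eq_zero_iff_mem.2 ?_
    exact Ideal.mem_span_singleton_self fR
  let ν : Γ(Spec (CommRingCat.of (A ⧸ Ideal.span {f})), ⊤) →+* R ⧸ Ideal.span {fR} :=
    (Ideal.Quotient.lift (Ideal.span {f}) ψ hψ).comp
      (Scheme.ΓSpecIso (CommRingCat.of (A ⧸ Ideal.span {f}))).hom.hom
  have hw : g.appLE ⊤ Vo le_top ≫ CommRingCat.ofHom μ = q.appLE ⊤ ⊤ le_top ≫ CommRingCat.ofHom ν := by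
    ext c
    show μ (g.appLE ⊤ Vo le_top c) = ν (q.appLE ⊤ ⊤ le_top c)
    rw [show q.appLE ⊤ ⊤ le_top c = q.appTop c by simp [Scheme.Hom.appLE]]
    show _ = Ideal.Quotient.lift (Ideal.span {f}) ψ hψ ((Scheme.ΓSpecIso (CommRingCat.of (A ⧸ Ideal.span {f}))).hom (q.appTop c))
    rw [show (Scheme.ΓSpecIso (CommRingCat.of (A ⧸ Ideal.span {f}))).hom (q.appTop c) =
      Ideal.Quotient.mk _ ((Scheme.ΓSpecIso (CommRingCat.of A)).hom c) from
      congr($(Scheme.ΓSpecIso_naturality (CommRingCat.ofHom (Ideal.Quotient.mk (Ideal.span {f})))) c)]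
    rw [Ideal.Quotient.lift_mk]
    show μ _ = μ _
    simp only [RingHom.coe_comp, Function.comp_apply]
    exact congrArg μ (congrArg _ ((Scheme.ΓSpecIso (CommRingCat.of A)).hom_inv_id_apply c).symm)
  have h0 : μ y = 0 := by
    have h1 := congr($(hpo.inl_desc (CommRingCat.ofHom μ) (CommRingCat.ofHom ν) hw) y)
    refine h1.symm.trans ?_
    show (hpo.desc _ _ hw) (k.appLE Vo (k ⁻¹ᵁ Vo) le_rfl y) = 0
    rw [Scheme.Hom.app_eq_appLE] at hy
    rw [hy, map_zero]
  obtain ⟨c, hc⟩ := Ideal.mem_span_singleton'.1 (Ideal.Quotient.eq_zero_iff_mem.1 h0)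
  obtain ⟨s, z, hz⟩ := exists_res_eq (ρ g a) Vo (basicOpen_ρ g a).symm c
  obtain ⟨l, hl⟩ := exists_pow_mul_eq_zero (ρ g a) (ρ g a ^ s * x - ρ g f * z) Vo (basicOpen_ρ g a).symm (by
    rw [map_sub, map_mul, map_mul, hz, map_pow, show V.presheaf.map _ x = c * fR from hc.symm]
    show _ - fR * _ = 0
    ring)
  exact ⟨l + s, ρ g a ^ l * z, by linear_combination hl⟩

end Cover

/-- Global sections after flat base change. -/
theorem exists_baseChange {S : Type u} [CommRing S] [Algebra A S] [Module.Flat A S] {X Y : Scheme.{u}}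
    [CompactSpace X] [QuasiSeparatedSpace X] {g : X ⟶ Spec (CommRingCat.of A)} {p : Y ⟶ X}
    {s : Y ⟶ Spec (CommRingCat.of S)} (H : IsPullback p s g (Spec.map (CommRingCat.ofHom (algebraMap A S)))) :
    letI := (ρ g).toAlgebra
    ∃ Φ : S ⊗[A] Γ(X, ⊤) →+* Γ(Y, ⊤), Function.Bijective Φ ∧
      ∀ c x, Φ (c ⊗ₜ x) = ρ s c * p.appTop x := by
  letI := (ρ g).toAlgebra
  let φ := Spec.map (CommRingCat.ofHom (algebraMap A S))
  haveI : Flat φ := by
    rw [HasRingHomProperty.Spec_iff (P := @Flat)]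
    exact RingHom.flat_algebraMap_iff.2 inferInstance
  haveI h1 := isIso_pushoutSection_of_isQuasiSeparated_of_flat_right H (US := ⊤) (UT := ⊤) (UX := ⊤)
    le_top le_top (UY := ⊤) (by simp) (isAffineOpen_top _) (isAffineOpen_top _)
    CompactSpace.isCompact_univ isQuasiSeparated_univ
  have h2 := (isIso_pushoutSection_iff ..).mp h1
  simp only [Scheme.Hom.appLE, homOfLE_refl, op_id, CategoryTheory.Functor.map_id, Category.comp_id,
    Scheme.Hom.preimage_top] at h2
  have h3 : IsPushout (CommRingCat.ofHom (algebraMap A Γ(X, ⊤)))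
      (CommRingCat.ofHom (algebraMap A S))
      p.appTop ((Scheme.ΓSpecIso (CommRingCat.of S)).inv ≫ s.appTop) := by
    refine h2.of_iso (Scheme.ΓSpecIso (CommRingCat.of A)) (Iso.refl _) (Scheme.ΓSpecIso (CommRingCat.of S))
      (Iso.refl _) ?_ ?_ ?_ ?_
    · rw [Iso.refl_hom, Category.comp_id]
      ext x
      show g.appTop x = g.appTop ((Scheme.ΓSpecIso (CommRingCat.of A)).inv ((Scheme.ΓSpecIso (CommRingCat.of A)).hom x))
      rw [Iso.hom_inv_id_apply]
    · exact Scheme.ΓSpecIso_naturality _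
    · simp [Scheme.Hom.appTop]
    · simp [Scheme.Hom.appTop]
  obtain ⟨e, he1, he2⟩ := H28Pinch.exists_tensorIso h3 rfl rfl
  refine ⟨e.hom.hom, ConcreteCategory.bijective_of_isIso e.hom, fun c x => ?_⟩
  rw [show (c ⊗ₜ[A] x : S ⊗[A] Γ(X, ⊤)) = (c ⊗ₜ[A] 1) * ((1 : S) ⊗ₜ[A] x) by
    rw [Algebra.TensorProduct.tmul_mul_tmul, mul_one, one_mul], map_mul]
  exact congrArg₂ (· * ·) congr($he1 c) congr($he2 x)

end Groth.Agent.H11LefFEt.CplSections
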