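import Groth.Agent.H11LefFEt.Levels

/-!
# Full faithfulness of restriction to a closed subscheme from formal sections of covers
-/

set_option autoImplicit false
set_option linter.style.haveILetI false
set_option backward.isDefEq.respectTransparency false

universe u

open CategoryTheory CategoryTheory.Limits AlgebraicGeometry Opposite TopologicalSpace
open Groth.Agent.H05EGA4.LefConn

namespace Groth.Agent.H11LefFEt

variable {X P : Scheme.{u}} (J : X.IdealSheafData) (π : P ⟶ X)

theorem range_levι (n : ℕ) : Set.range (levι J π n) = π ⁻¹' (J.support : Set X) := by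
  rw [Scheme.Pullback.range_fst]
  exact congrArg (π ⁻¹' ·) (range_pow J n)

theorem range_fst_subscheme : Set.range (pullback.fst π J.subschemeι) = π ⁻¹' (J.support : Set X) := by
  rw [Scheme.Pullback.range_fst, Scheme.IdealSheafData.range_subschemeι]

theorem idem_basicOpen_preimage {A B : Scheme.{u}} (g : A ⟶ B) (s : Γ(B, ⊤)) :
    (A.basicOpen (g.appTop s) : Set A) = g ⁻¹' (B.basicOpen s : Set B) :=
  (congrArg SetLike.coe (Scheme.preimage_basicOpen g s)).symm

/-- Clopens over the support come from clopens of the cover. -/
theorem exists_clopen_of_formalSections (h : FormalSections J π) (W' : Set ↥(pullback π J.subschemeι))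
    (hW' : IsClopen W') : ∃ W : Set P, IsClopen W ∧ pullback.fst π J.subschemeι ⁻¹' W = W' := by
  let f := pullback.fst π J.subschemeι
  have hemb : IsClosedMap f := f.isClosedEmbedding.isClosedMap
  have hinj : Function.Injective f := f.isClosedEmbedding.injective
  let S : Set P := f '' W'
  have hC : ∀ n, IsClopen (levι J π n ⁻¹' S) := fun n => by
    refine ⟨(hemb _ hW'.1).preimage (levι J π n).continuous, ?_⟩
    have : levι J π n ⁻¹' S = (levι J π n ⁻¹' (f '' W'ᶜ))ᶜ := by
      ext z
      have hz : levι J π n z ∈ Set.range f := by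
        rw [range_fst_subscheme, ← range_levι J π n]
        exact Set.mem_range_self z
      obtain ⟨w, hw⟩ := hz
      simp only [Set.mem_preimage, Set.mem_compl_iff, S, ← hw, hinj.mem_set_image]
      exact not_not.symm
    rw [this]
    exact ((hemb _ hW'.compl.1).preimage (levι J π n).continuous).isOpen_compl
  choose e he heC using fun n => exists_idempotent (hC n)
  obtain ⟨s, hs⟩ := h.2 e fun n => by
    refine idem_ext ((he (n + 1)).map (levTrans J π n).appTop.hom) (he n) ?_
    rw [idem_basicOpen_preimage, heC n, heC (n + 1)]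
    ext z
    show levι J π (n + 1) (levTrans J π n z) ∈ S ↔ levι J π n z ∈ S
    rw [← Scheme.Hom.comp_apply, levTrans_ι]
  have hidem : IsIdempotentElem s := h.1 _ _ fun n => by
    rw [map_mul, hs n]
    exact he n
  refine ⟨P.basicOpen s, isClopen_basicOpen hidem, Set.ext fun z => ?_⟩
  have hz : f z ∈ Set.range (levι J π 0) := by
    rw [range_levι, ← range_fst_subscheme]
    exact Set.mem_range_self z
  obtain ⟨z₀, hz₀⟩ := hz
  have h1 : z₀ ∈ (Scheme.basicOpen _ (e 0) : Set _) ↔ f z ∈ (P.basicOpen s : Set P) := by
    rw [← hs 0, idem_basicOpen_preimage, Set.mem_preimage, hz₀]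
  rw [heC 0, Set.mem_preimage, hz₀, hinj.mem_set_image] at h1
  exact h1.symm

/-- Nonempty clopens meet the support. -/
theorem meets_of_formalSections (h : FormalSections J π) {V : Set P} (hV : IsClopen V) (hne : V.Nonempty) :
    (V ∩ π ⁻¹' (J.support : Set X)).Nonempty := by
  by_contra hcon
  obtain ⟨e, he, heV⟩ := exists_idempotent hV
  have h0 : e = 0 := h.1 _ _ fun n => by
    rw [map_zero]
    refine idem_ext (he.map (levι J π n).appTop.hom) (mul_zero _) ?_
    rw [idem_basicOpen_preimage, Scheme.basicOpen_zero, heV]
    refine Set.eq_empty_iff_forall_notMem.2 fun z hz => hcon ⟨_, hz, ?_⟩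
    rw [← range_levι J π n]
    exact Set.mem_range_self z
  rw [h0, Scheme.basicOpen_zero] at heV
  exact hne.ne_empty heV.symm

/-- Restriction of finite étale covers to a closed subscheme is fully faithful if all covers have formal sections. -/
theorem full_faithful (h : ∀ V : FEt.Cat X, FormalSections J V.hom) :
    (FEt.restrict J.subschemeι).Full ∧ (FEt.restrict J.subschemeι).Faithful := by
  have hm : H18Et.FEtRestrict.MeetsClopens J.subschemeι := fun V hV hne => by
    obtain ⟨x, hxV, hx⟩ := meets_of_formalSections J (𝟙 X)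
      (h (MorphismProperty.Over.mk ⊤ (𝟙 X) (FEt.prop.id_mem X))) hV hne
    exact ⟨x, hxV, by rw [Scheme.IdealSheafData.range_subschemeι]; exact hx⟩
  refine ⟨H18Et.FEtRestrict.full _ hm fun V W' hW' => ?_, H18Et.FEtRestrict.faithful _ hm⟩
  exact exists_clopen_of_formalSections J V.hom (h V) W' hW'

end Groth.Agent.H11LefFEt
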