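import Groth.Agent.H11LefFEt.Criterion
import Groth.Agent.H10Coh.SheafHom.Flat
import Groth.Agent.H10Coh.SheafHom.Pullback
import Groth.Agent.H29Ref.DualStalk
import Groth.Agent.H22Alg.KExists
import Groth.Agent.H16Derived.KFlat.PerfNoeth
import Groth.Agent.H29Disc.Generic

/-!
# Formal sections of finite flat covers from maps of the dual into the completion
-/

set_option autoImplicit false
set_option linter.style.haveILetI false
set_option backward.isDefEq.respectTransparency false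

universe u

open CategoryTheory CategoryTheory.Limits AlgebraicGeometry Opposite TopologicalSpace
open Groth.Agent Groth.Agent.H29Ref Groth.Agent.H10Coh.SheafHom
open scoped TensorProduct

namespace Groth.Agent.H11LefFEt

theorem isReflexive_of_finLocFree {X : Scheme.{u}} [IsLocallyNoetherian X] {F : X.Modules}
    (hF : FlatMod.IsFinLocFree F) : RefHull.IsReflexive F :=
  (H29Ref.isReflexive_iff F (H16Derived.KFlat.Stalk.isCoh_of_isFinLocFree hF)).2 fun x => by
    obtain ⟨_, ⟨b⟩⟩ := H22Alg.KExists.stalk_free hF x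
    haveI := Module.Free.of_basis b
    haveI := H29Ref.finite_stalk F (H16Derived.KFlat.Stalk.isCoh_of_isFinLocFree hF).2 x
    exact (inferInstance : Module.IsReflexive (X.presheaf.stalk x) (F.presheaf.stalk x))

theorem hom_ext_basis {X : Scheme.{u}} {M N : X.Modules} {α β : M ⟶ N} (B : X.Opens → Prop)
    (hB : ∀ (W : X.Opens) (x : X), x ∈ W → ∃ U, B U ∧ x ∈ U ∧ U ≤ W)
    (h : ∀ U, B U → ∀ s : Γ(M, U), α.app U s = β.app U s) : α = β := by
  refine Scheme.Modules.hom_ext _ _ fun W => ConcreteCategory.hom_ext _ _ fun s => ?_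
  refine H29Ref.sec_ext N fun x hx => ?_
  obtain ⟨U, hU, hxU, e⟩ := hB W x hx
  rw [← N.presheaf.germ_res_apply (homOfLE e) x hxU (α.app W s),
    ← N.presheaf.germ_res_apply (homOfLE e) x hxU (β.app W s)]
  refine congrArg _ ?_
  refine (congr($(α.mapPresheaf.naturality (homOfLE e).op) s)).symm.trans ?_
  exact (h U hU _).trans (congr($(β.mapPresheaf.naturality (homOfLE e).op) s))

/-- Biduality on sections. -/
theorem toLin_bidual {X : Scheme.{u}} (F : X.Modules) {U : X.Opens} (m : Γ(F, U))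
    (ψ : Γ(RefHull.dual F, U)) :
    toLin ((RefHull.bidualMap F).app U m) ψ = toLin ψ m := by
  refine H29Ref.sec_ext _ fun y hy => ?_
  refine (germ_toLin _ ψ ⟨y, hy⟩).trans ?_
  refine Eq.trans ?_ (germ_toLin ψ m ⟨y, hy⟩).symm
  show RefHull.bidualAt F y (F.presheaf.germ U y hy m) _ = _
  rw [RefHull.bidualAt_apply, RefHull.evalStalk_germ]

theorem toSubscheme_quotMap {X : Scheme.{u}} {I K : X.IdealSheafData} (h : I ≤ K) :
    ClSub.toSubscheme I ≫ Lef.quotMap h = ClSub.toSubscheme K := by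
  refine H05EGA4.LefConn.unit_hom_ext ?_
  show (Lef.quotMap h).app ⊤ ((ClSub.toSubscheme I).app ⊤ (1 : Γ(X, ⊤))) = _
  rw [H05EGA4.LefConn.quotMap_app]
  show (Scheme.IdealSheafData.inclusion h).app ⊤ (I.subschemeι.app ⊤ (1 : Γ(X, ⊤))) = K.subschemeι.app ⊤ (1 : Γ(X, ⊤))
  rw [map_one, map_one, map_one]

theorem quotMap_red {X : Scheme.{u}} {I K : X.IdealSheafData} (h : I ≤ K) (V : X.Opens) (r : Γ(X, V)) :
    (Lef.quotMap h).app V ((ClSub.toSubscheme I).app V r) = (ClSub.toSubscheme K).app V r :=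
  H24FSch.comp_eq_apply (toSubscheme_quotMap h) V r

theorem hom_app_eq {X : Scheme.{u}} {M N : X.Modules} {α β : M ⟶ N} (h : α = β) (V : X.Opens) (s : Γ(M, V)) :
    α.app V s = β.app V s := by rw [h]

variable {X P : Scheme.{u}} (J : X.IdealSheafData) (π : P ⟶ X)

/-- The reduction of functions. -/
noncomputable abbrev redMap (n : ℕ) (V : X.Opens) : Γ(X, V) →+* Γ((FSch.completionAlong X J).X n, FSch.completionToX X J n ⁻¹ᵁ V) :=
  ((FSch.completionToX X J n).app V).hom

/-- A lift of a section on a level over an open. -/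
def IsLift (n : ℕ) (e : Γ(lev J π n, ⊤)) (V : X.Opens) (m : Γ(pO π, V)) : Prop :=
  (levι J π n).app (π ⁻¹ᵁ V) m = (lev J π n).presheaf.map (homOfLE le_top).op e

theorem res_res {A : Scheme.{u}} {U V W : A.Opens} (h : V ≤ U) (h' : W ≤ V) (x : Γ(A, U)) :
    A.presheaf.map (homOfLE h').op (A.presheaf.map (homOfLE h).op x) = A.presheaf.map (homOfLE (h'.trans h)).op x := by
  rw [← ConcreteCategory.comp_apply, ← Functor.map_comp]
  rfl

theorem IsLift.res {n : ℕ} {e : Γ(lev J π n, ⊤)} {V V' : X.Opens} {m : Γ(pO π, V)} (hm : IsLift J π n e V m)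
    (h : V' ≤ V) : IsLift J π n e V' ((pO π).presheaf.map (homOfLE h).op m) := by
  have h1 := congr($((levι J π n).naturality
    (homOfLE (π.preimage_mono h)).op) m)
  refine h1.trans ?_
  refine (congrArg _ hm).trans ?_
  exact res_res (A := lev J π n) (le_top : levι J π n ⁻¹ᵁ (π ⁻¹ᵁ V) ≤ ⊤)
    ((levι J π n).preimage_mono (π.preimage_mono h)) e

theorem exists_lift [IsAffineHom π] (n : ℕ) (e : Γ(lev J π n, ⊤)) {V : X.Opens} (hV : IsAffineOpen V) :
    ∃ m, IsLift J π n e V m :=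
  (levι J π n).app_surjective _ (hV.preimage π) _

theorem IsLift.succ {n : ℕ} {e : Γ(lev J π (n + 1), ⊤)} {e₀ : Γ(lev J π n, ⊤)}
    (he : (levTrans J π n).appTop e = e₀) {V : X.Opens} {m : Γ(pO π, V)} (hm : IsLift J π (n + 1) e V m) :
    IsLift J π n e₀ V m := by
  refine Eq.trans ?_ (congrArg _ he)
  have hle : levι J π n ⁻¹ᵁ (π ⁻¹ᵁ V) ≤ levTrans J π n ⁻¹ᵁ (levι J π (n + 1) ⁻¹ᵁ (π ⁻¹ᵁ V)) := by
    rw [← Scheme.Hom.comp_preimage (levTrans J π n), levTrans_ι]
  have h1 := congrArg ((levTrans J π n).appLE _ _ hle) hm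
  refine Eq.trans ?_ (h1.trans ?_)
  · rw [Scheme.Hom.app_eq_appLE, Scheme.Hom.app_eq_appLE]
    exact (appLE_appLE _ _ _ (levTrans_ι J π n) _ _ _ _ _ _ m).symm
  · rw [← ConcreteCategory.comp_apply, Scheme.Hom.map_appLE, Scheme.Hom.appTop, Scheme.Hom.app_eq_appLE,
      ← ConcreteCategory.comp_apply, Scheme.Hom.appLE_map]

variable [IsAffineHom π]

/-- Two sections agree on a level iff all functionals do. -/
theorem levι_eq_iff (n : ℕ) {V : X.Opens} (hV : IsAffineOpen V) [Module.Free Γ(X, V) Γ(pO π, V)]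
    [Module.Finite Γ(X, V) Γ(pO π, V)] (d : Γ(pO π, V)) :
    (levι J π n).app (π ⁻¹ᵁ V) d = 0 ↔
      ∀ ψ : Γ(pO π, V) →ₗ[Γ(X, V)] Γ(X, V), redMap J n V (ψ d) = 0 := by
  let i := FSch.completionToX X J n
  have hsq : levι J π n ≫ π = levπ J π n ≫ i := pullback.condition
  constructor
  · intro h ψ
    have hY : levπ J π n ⁻¹ᵁ (i ⁻¹ᵁ V) = levι J π n ⁻¹ᵁ (π ⁻¹ᵁ V) ⊓ levπ J π n ⁻¹ᵁ (i ⁻¹ᵁ V) :=
      (inf_eq_right.2 (preimage_le hsq V)).symm
    have hpo := H26Sym.isPushout_appLE (IsPullback.of_hasPullback π i) hV (hV.preimage i) (hV.preimage π)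
      le_rfl le_rfl hY
    rw [← Scheme.Hom.app_eq_appLE i, ← Scheme.Hom.app_eq_appLE π, ← Scheme.Hom.app_eq_appLE (levπ J π n)] at hpo
    letI := (i.app V).hom.toAlgebra
    letI := (π.app V).hom.toAlgebra
    letI := ((levπ J π n).app (i ⁻¹ᵁ V)).hom.toAlgebra
    letI := ((levι J π n).appLE (π ⁻¹ᵁ V) (levπ J π n ⁻¹ᵁ (i ⁻¹ᵁ V)) (preimage_le hsq V)).hom.toAlgebra
    letI : Algebra Γ(X, V) Γ(lev J π n, levπ J π n ⁻¹ᵁ (i ⁻¹ᵁ V)) :=
      (i.app V ≫ (levπ J π n).app (i ⁻¹ᵁ V)).hom.toAlgebra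
    haveI : IsScalarTower Γ(X, V) Γ((FSch.completionAlong X J).X n, i ⁻¹ᵁ V)
        Γ(lev J π n, levπ J π n ⁻¹ᵁ (i ⁻¹ᵁ V)) := .of_algebraMap_eq fun _ => rfl
    haveI : IsScalarTower Γ(X, V) Γ(P, π ⁻¹ᵁ V) Γ(lev J π n, levπ J π n ⁻¹ᵁ (i ⁻¹ᵁ V)) :=
      .of_algebraMap_eq fun r => congr($(hpo.w.symm) r)
    have hA : Algebra.IsPushout Γ(X, V) Γ((FSch.completionAlong X J).X n, i ⁻¹ᵁ V) Γ(P, π ⁻¹ᵁ V)
        Γ(lev J π n, levπ J π n ⁻¹ᵁ (i ⁻¹ᵁ V)) := CommRingCat.isPushout_iff_isPushout.mp hpo.flip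
    let ψ' : Γ(P, π ⁻¹ᵁ V) →ₗ[Γ(X, V)] Γ(X, V) :=
      { toFun := ψ, map_add' := fun a b => map_add ψ a b, map_smul' := fun r a => ψ.map_smul r a }
    have h0 : (1 : Γ((FSch.completionAlong X J).X n, i ⁻¹ᵁ V)) ⊗ₜ[Γ(X, V)] (show Γ(P, π ⁻¹ᵁ V) from d) = 0 := by
      apply hA.out.equiv.injective
      rw [map_zero, hA.out.equiv_tmul, one_smul]
      show (levι J π n).appLE _ _ (preimage_le hsq V) d = 0
      rw [Scheme.Hom.appLE, ConcreteCategory.comp_apply]
      erw [h]
      exact map_zero _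
    have h1 := congrArg (LinearMap.lTensor Γ((FSch.completionAlong X J).X n, i ⁻¹ᵁ V) ψ') h0
    rw [map_zero, LinearMap.lTensor_tmul] at h1
    have h2 := congrArg (TensorProduct.rid Γ(X, V) Γ((FSch.completionAlong X J).X n, i ⁻¹ᵁ V)) h1
    rw [map_zero, TensorProduct.rid_tmul, Algebra.smul_def, mul_one] at h2
    exact h2
  · intro h
    let b := Module.Free.chooseBasis Γ(X, V) Γ(pO π, V)
    have hr : ∀ (r : Γ(X, V)) (x : Γ(pO π, V)), redMap J n V r = 0 → (levι J π n).app (π ⁻¹ᵁ V) (r • x) = 0 := by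
      intro r x hr
      have hsm : (r • x : Γ(pO π, V)) = ((π.app V r * (show Γ(P, π ⁻¹ᵁ V) from x) : Γ(P, π ⁻¹ᵁ V))) := rfl
      rw [hsm, map_mul]
      refine mul_eq_zero_of_left ?_ _
      have hz := appLE_appLE (levι J π n) π _ hsq V (π ⁻¹ᵁ V) (levι J π n ⁻¹ᵁ (π ⁻¹ᵁ V)) le_rfl le_rfl
        (by rw [← hsq]; exact le_rfl) r
      rw [← Scheme.Hom.app_eq_appLE, ← Scheme.Hom.app_eq_appLE] at hz
      refine hz.trans ?_
      rw [← appLE_appLE (levπ J π n) i _ rfl V (i ⁻¹ᵁ V) (levι J π n ⁻¹ᵁ (π ⁻¹ᵁ V)) le_rfl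
        (by rw [← Scheme.Hom.comp_preimage, ← Scheme.Hom.comp_preimage, hsq]) _ r, ← Scheme.Hom.app_eq_appLE]
      rw [show i.app V r = 0 from hr, map_zero]
    rw [← b.sum_repr d, map_sum]
    exact Finset.sum_eq_zero fun j _ => hr _ _ (by simpa using h (b.coord j))

variable [IsLocallyNoetherian X] (hG : FlatMod.IsFinLocFree (pO π))
  (hD : Lef.HomToFormalBijective J (RefHull.dual (pO π)))
include hG hD

theorem formalSections_of_dual : FormalSections J π := by
  let G := pO π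
  let D := RefHull.dual G
  have hGq : Coh.IsQCoh G := isQCoh_pO π
  haveI : IsIso (RefHull.bidualMap G) := isReflexive_of_finLocFree hG
  have hbase := exists_freeOn (F := G) hG
  let B := FreeOn G
  let toS := fun (n : ℕ) => ClSub.toSubscheme (J ^ (n + 1))
  -- functionals and reductions
  have key : ∀ (n : ℕ) (V : X.Opens), B V → ∀ m m' : Γ(G, V),
      ((levι J π n).app (π ⁻¹ᵁ V) m = (levι J π n).app (π ⁻¹ᵁ V) m' ↔
        ∀ ψ : Γ(D, V), redMap J n V (toLin ψ m) = redMap J n V (toLin ψ m')) := by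
    rintro n V ⟨hV, hfree, hfin⟩ m m'
    rw [← sub_eq_zero, ← map_sub]
    refine (levι_eq_iff J π n hV (m - m')).trans ⟨fun h ψ => ?_, fun h ψ => ?_⟩
    · refine sub_eq_zero.1 ((map_sub (redMap J n V) _ _).symm.trans ?_)
      exact (congrArg (redMap J n V) ((toLin ψ).map_sub m m')).symm.trans (h (toLin ψ))
    · obtain ⟨θ, hθ⟩ := (bijective_toLinₗ G (Coh.structureModule X) hGq hV).2 ψ
      rw [← show toLin θ = ψ from hθ]
      refine (congrArg (redMap J n V) (map_sub (toLin θ) m m')).trans ?_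
      exact (map_sub (redMap J n V) _ _).trans (sub_eq_zero.2 (h θ))
  have hfun : ∀ (φ : D ⟶ Coh.structureModule X), ∃ s : Γ(P, ⊤), ∀ V, B V → ∀ ψ : Γ(D, V),
      φ.app V ψ = toLin ψ ((G.presheaf.map (homOfLE (le_top : V ≤ ⊤)).op) s) := by
    intro φ
    obtain ⟨s, hs⟩ := (H17.PullSect.bijective_app (asIso (RefHull.bidualMap G)).hom ⊤).2 (RefHull.ofHom φ ⊤)
    refine ⟨s, fun V _ ψ => ?_⟩
    rw [← toLin_bidual G _ ψ]
    have h1 := congr($((RefHull.bidualMap G).mapPresheaf.naturality (homOfLE (le_top : V ≤ ⊤)).op) s)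
    rw [show (RefHull.bidualMap G).app V (G.presheaf.map (homOfLE (le_top : V ≤ ⊤)).op s) =
      (RefHull.ddual G).presheaf.map (homOfLE (le_top : V ≤ ⊤)).op (RefHull.ofHom φ ⊤) from h1.trans (congrArg ((RefHull.ddual G).presheaf.map (homOfLE (le_top : V ≤ ⊤)).op) hs)]
    exact (toLin_ofHom φ V ψ).symm
  refine ⟨fun s t hst => ?_, fun e he => ?_⟩
  · obtain ⟨φs, hφs⟩ := ofHom_surjective ((RefHull.bidualMap G).app ⊤ s)
    obtain ⟨φt, hφt⟩ := ofHom_surjective ((RefHull.bidualMap G).app ⊤ t)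
    refine (H17.PullSect.bijective_app (asIso (RefHull.bidualMap G)).hom ⊤).1 ?_
    refine hφs.symm.trans (Eq.trans ?_ hφt)
    refine congrArg (fun φ => RefHull.ofHom φ ⊤) (hD.1 _ _ fun n => hom_ext_basis B hbase fun V hV ψ => ?_)
    have hval : ∀ (φ : D ⟶ Coh.structureModule X) (u : Γ(P, ⊤)),
        RefHull.ofHom φ ⊤ = (RefHull.bidualMap G).app ⊤ u →
        φ.app V ψ = toLin ψ (G.presheaf.map (homOfLE (le_top : V ≤ ⊤)).op u) := fun φ u hu => by
      rw [← toLin_ofHom φ V ψ, ← toLin_bidual G _ ψ]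
      refine congrArg (fun f => toLin f ψ) ?_
      refine Eq.trans ?_ (congr($((RefHull.bidualMap G).mapPresheaf.naturality (homOfLE (le_top : V ≤ ⊤)).op) u)).symm
      exact congrArg ((RefHull.ddual G).presheaf.map (homOfLE (le_top : V ≤ ⊤)).op) hu
    show redMap J n V (φs.app V ψ) = redMap J n V (φt.app V ψ)
    rw [hval φs s hφs, hval φt t hφt]
    refine (key n V hV _ _).1 ?_ ψ
    have hnat := fun u : Γ(P, ⊤) => congr($((levι J π n).naturality
      (homOfLE (le_top : π ⁻¹ᵁ V ≤ ⊤)).op) u)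
    exact (hnat s).trans ((congrArg _ (hst n)).trans (hnat t).symm)
  · choose m hm using fun (n : ℕ) (V : X.Opens) (hV : B V) => exists_lift J π n (e n) hV.1
    have hy : ∀ n, ∃ y : D ⟶ ClSub.quotMod (J ^ (n + 1)), ∀ V (hV : B V) ψ,
        y.app V ψ = (toS n).app V (toLin ψ (m n V hV)) := by
      intro n
      refine H17.PrinOmega.exists_hom_of_basis D _ B hbase (fun V hV =>
        { toFun := fun ψ => (toS n).app V (toLin ψ (m n V hV))
          map_add' := fun a b => by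
            rw [show toLin (a + b) = toLin a + toLin b from map_add (toLinₗ G _ V) a b,
              LinearMap.add_apply, map_add]
          map_smul' := fun r a => by
            rw [show toLin (r • a) = r • toLin a from map_smul (toLinₗ G _ V) r a, LinearMap.smul_apply]
            exact (toS n).app_smul r _ }) fun U U' hU hU' le ψ => ?_
      have h1 : (toS n).app U' (toLin (D.presheaf.map (homOfLE le).op ψ) (m n U' hU')) =
          (toS n).app U' (toLin (D.presheaf.map (homOfLE le).op ψ) (G.presheaf.map (homOfLE le).op (m n U hU))) :=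
        (key n U' hU' _ _).1 ((hm n U' hU').trans (IsLift.res J π (hm n U hU) le).symm) _
      refine h1.trans ?_
      rw [toLin_res]
      exact congr($((toS n).mapPresheaf.naturality (homOfLE le).op) (toLin ψ (m n U hU)))
    choose y hy using hy
    obtain ⟨φ, hφ⟩ := hD.2 y fun n => hom_ext_basis B hbase fun V hV ψ => by
      refine Eq.trans (congrArg ((Lef.quotMap (Lef.pow_succ_le J n)).app V) (hy (n + 1) V hV ψ)) ?_
      refine Eq.trans (quotMap_red (Lef.pow_succ_le J n) V _) ?_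
      refine Eq.trans ?_ (hy n V hV ψ).symm
      exact (key n V hV _ _).1 ((IsLift.succ J π (he n) (hm (n + 1) V hV)).trans (hm n V hV).symm) ψ
    obtain ⟨s, hs⟩ := hfun φ
    refine ⟨s, fun n => ?_⟩
    choose V hV hxV using fun x : X => hbase ⊤ x trivial
    refine (lev J π n).sheaf.eq_of_locally_eq' (fun x => levι J π n ⁻¹ᵁ (π ⁻¹ᵁ V x)) ⊤
      (fun _ => homOfLE le_top) (fun z _ => Opens.mem_iSup.2 ⟨π (levι J π n z), (hxV _).1⟩) _ _ fun x => ?_
    refine Eq.trans (congr($((levι J π n).naturality (homOfLE (le_top : π ⁻¹ᵁ V x ≤ ⊤)).op) s)).symm ?_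
    refine Eq.trans ((key n (V x) (hV x) _ (m n (V x) (hV x))).2 fun ψ => ?_) (hm n (V x) (hV x))
    refine Eq.trans (congrArg (redMap J n (V x)) (hs (V x) (hV x) ψ).symm) ?_
    exact (hom_app_eq (hφ n) (V x) ψ).trans (hy n (V x) (hV x) ψ)

end Groth.Agent.H11LefFEt

namespace Groth.Agent.H11LefFEt

/-- Restriction of finite étale covers is fully faithful if maps out of finite locally free modules into `O`
are determined by the completion. -/
theorem full_faithful_of_homToFormal {X : Scheme.{u}} [IsLocallyNoetherian X] (J : X.IdealSheafData)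
    (h : ∀ D : X.Modules, FlatMod.IsFinLocFree D → Lef.HomToFormalBijective J D) :
    (FEt.restrict J.subschemeι).Full ∧ (FEt.restrict J.subschemeι).Faithful := by
  refine full_faithful J fun V => ?_
  haveI : IsFinite V.hom := V.prop.1
  haveI : Etale V.hom := V.prop.2
  have hG : FlatMod.IsFinLocFree (pO V.hom) := H29Disc.isFinLocFree_pushO (Y := X) (f := V.hom)
  exact formalSections_of_dual (X := X) J V.hom hG
    (h _ (isFinLocFree_homSh hG (H05EGA4.LefConn.isFinLocFree_unit X)))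

end Groth.Agent.H11LefFEt
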