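import Groth.Agent.S1765
import Groth.Agent.S1721
import Groth.Agent.H8Props.CutoffCpl
import Groth.Agent.H02CA.SkDescent
import Groth.Agent.H05EGA4.SerreCond
import Groth.Agent.H05EGA4.FormalStrict

/-!
# A power of `f` kills `H¹` and `H²` under depth conditions away from `f`
-/

set_option autoImplicit false
set_option linter.style.haveILetI false

universe u

open IsLocalRing

namespace Groth.Agent.H11LefFEt.DualKill

variable {A : Type u} [CommRing A] [IsNoetherianRing A] [IsLocalRing A]

theorem krullDim_Icc_closedPoint (P : PrimeSpectrum A) :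
    Order.krullDim (Set.Icc P (closedPoint A)) = ringKrullDim (A ⧸ P.asIdeal) := by
  rw [ringKrullDim_quotient]
  exact Order.krullDim_eq_of_orderIso
    { toFun := fun z => ⟨z.1, z.2.1⟩
      invFun := fun z => ⟨z.1, z.2, IsLocalRing.le_maximalIdeal z.1.2.ne_top⟩
      left_inv := fun _ => rfl
      right_inv := fun _ => rfl
      map_rel_iff' := Iff.rfl }

theorem exists_pow_kill (hd : ∃ ω : Dual.D A, Dual.IsDualizing A ω) (f : A) (hf : f ∈ maximalIdeal A)
    (h : ∀ p : Ideal A, ∀ _ : p.IsPrime, f ∉ p →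
      (2 : WithBot ℕ∞) < (LocCoh.depth (Localization.AtPrime p) (Localization.AtPrime p) : WithBot ℕ∞) + ringKrullDim (A ⧸ p)) :
    ∃ n : ℕ, ∀ i ≤ 2, ∀ x : LocCoh.H (maximalIdeal A) i A, f ^ n • x = 0 := by
  let J : Ideal A :=
    { carrier := {a | ∀ i ≤ 2, ∀ x : LocCoh.H (maximalIdeal A) i A, a • x = 0}
      add_mem' := fun ha hb i hi x => by rw [add_smul, ha i hi, hb i hi, add_zero]
      zero_mem' := fun i _ x => zero_smul _ _
      smul_mem' := fun c a ha i hi x => by rw [smul_eq_mul, mul_smul, ha i hi, smul_zero] }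
  suffices f ∈ J.radical from (Ideal.mem_radical_iff.1 this).imp fun n hn => hn
  rw [Ideal.radical_eq_sInf, Submodule.mem_sInf]
  rintro p ⟨hJp, hp⟩
  by_contra hfp
  obtain ⟨g, hgp, hg⟩ := S1765.result A hd (maximalIdeal A) A ⟨p, hp⟩ (fun hle => hfp (hle hf)) 2
    fun p' q hp' hq hpq => by
      have hqm : q = closedPoint A :=
        PrimeSpectrum.ext ((maximalIdeal.isMaximal A).eq_of_le q.isPrime.ne_top hq).symm
      subst hqm
      obtain ⟨e⟩ := H4Depth.exists_localizedModule_self_equiv p'.asIdeal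
      rw [H4Depth.depth_congr e, krullDim_Icc_closedPoint]
      exact_mod_cast h p'.asIdeal p'.isPrime fun hfp' => hfp (hp' hfp')
  exact hgp (hJp hg)

/-- `(S₂)` off `f` and components of dimension at least three give the depth condition. -/
theorem depth_condition (hd : ∃ ω : Dual.D A, Dual.IsDualizing A ω) (f : A) (hf : f ∈ maximalIdeal A)
    (hS : LocCoh.HasSk 2 (Localization.Away f) (Localization.Away f))
    (hdim : ∀ p : Ideal A, p ∈ minimalPrimes A → f ∉ p → (3 : WithBot ℕ∞) ≤ ringKrullDim (A ⧸ p))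
    (p : Ideal A) [hp : p.IsPrime] (hfp : f ∉ p) :
    (2 : WithBot ℕ∞) < (LocCoh.depth (Localization.AtPrime p) (Localization.AtPrime p) : WithBot ℕ∞) + ringKrullDim (A ⧸ p) := by
  obtain ⟨ω, hω⟩ := hd
  let S := Localization.Away f
  have hdisj : Disjoint (Submonoid.powers f : Set A) (p : Set A) := Set.disjoint_left.2 fun a ha hap => by
    obtain ⟨k, rfl⟩ := ha
    exact hfp (hp.mem_of_pow_mem k hap)
  let P : Ideal S := p.map (algebraMap A S)
  haveI : P.IsPrime := IsLocalization.isPrime_of_isPrime_disjoint _ S p hp hdisj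
  have hPp : P.comap (algebraMap A S) = p :=
    IsLocalization.under_map_of_isPrime_disjoint (Submonoid.powers f) S hp hdisj
  haveI : IsLocalization.AtPrime (Localization.AtPrime P) p := by
    have h := IsLocalization.isLocalization_isLocalization_atPrime_isLocalization (Submonoid.powers f)
      (Localization.AtPrime P) P
    convert h using 2
    exact hPp.symm
  let e : Localization.AtPrime P ≃+* Localization.AtPrime p :=
    (IsLocalization.algEquiv p.primeCompl (Localization.AtPrime P) (Localization.AtPrime p)).toRingEquiv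
  have h2 := (H02CA.SkDescent.hasSk_self_iff 2).1 hS P
  rw [H05EGA4.depth_eq_of_ringEquiv e, ringKrullDim_eq_of_ringEquiv e] at h2
  obtain ⟨p₀, hp₀, hle⟩ := Ideal.exists_minimalPrimes_le (I := (⊥ : Ideal A)) (J := p) bot_le
  haveI := hp₀.isPrime
  obtain ⟨k, a, b, hk, ha, hb, hkab⟩ := H8Props.CutoffCpl.exists_height_Ici_add
    (H4DR.Dualizing.isCatenary hω) (p := ⟨p₀, hp₀.isPrime⟩) (q := ⟨p, hp⟩) hle
  have ha3 : (3 : WithBot ℕ∞) ≤ (a : WithBot ℕ∞) := ha ▸ hdim p₀ hp₀ fun h => hfp (hle h)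
  have hkht : (k : WithBot ℕ∞) ≤ ringKrullDim (Localization.AtPrime p) := by
    rw [IsLocalization.AtPrime.ringKrullDim_eq_height p (Localization.AtPrime p), show Ideal.height p = Order.height (⟨p, hp⟩ : PrimeSpectrum A) from PrimeSpectrum.height_eq_orderHeight ⟨p, hp⟩]
    have h1 : Order.height (⟨⟨p, hp⟩, hle⟩ : Set.Ici (⟨p₀, hp₀.isPrime⟩ : PrimeSpectrum A)) ≤
        Order.height (⟨p, hp⟩ : PrimeSpectrum A) :=
      Order.height_le_height_apply_of_strictMono Subtype.val (fun _ _ h => h) _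
    rw [hk] at h1
    exact_mod_cast h1
  rw [hb]
  generalize hδ : LocCoh.depth (Localization.AtPrime p) (Localization.AtPrime p) = δ at h2 ⊢
  induction δ using ENat.recTopCoe with
  | top => exact lt_of_lt_of_le (WithBot.coe_lt_coe.2 (ENat.natCast_lt_top 2)) (le_add_of_nonneg_right (by exact_mod_cast b.zero_le))
  | coe d =>
    have hk2 : ((min 2 k : ℕ) : WithBot ℕ∞) ≤ ((d : ℕ∞) : WithBot ℕ∞) := by
      refine le_trans ?_ h2
      refine le_min ?_ (le_trans ?_ hkht)
      · exact_mod_cast min_le_left 2 k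
      · exact_mod_cast min_le_right 2 k
    have hm : min 2 k ≤ d := by exact_mod_cast hk2
    have h3 : 3 ≤ a := by exact_mod_cast ha3
    have hb1 : 1 ≤ b := by
      by_contra hb0
      have hb0' : ringKrullDim (A ⧸ p) ≤ 0 := by
        rw [hb, Nat.lt_one_iff.1 (not_le.1 hb0)]; simp
      haveI : Ring.KrullDimLE 0 (A ⧸ p) := Ring.krullDimLE_iff.2 (by simpa using hb0')
      have hpm : p.IsMaximal := Ideal.Quotient.maximal_of_isField p Ring.KrullDimLE.isField_of_isDomain
      exact hfp ((IsLocalRing.eq_maximalIdeal hpm).symm ▸ hf)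
    have : 2 < d + b := by omega
    have h4 : (((2 : ℕ) : ℕ∞) : WithBot ℕ∞) < (((d + b : ℕ) : ℕ∞) : WithBot ℕ∞) :=
      WithBot.coe_lt_coe.2 (Nat.cast_lt.2 this)
    push_cast at h4 ⊢
    exact h4

end Groth.Agent.H11LefFEt.DualKill
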