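import Groth.Agent.H18Pur.Complete.Purity
import Groth.Agent.H12AlgSp.DescentLQF
import Groth.Agent.H18Et.FEtLimit
import Groth.Agent.H18Descent.Basic
import Groth.Prelude.Def_FEt
import Mathlib.AlgebraicGeometry.Morphisms.LocalFlatDescent
import Mathlib.AlgebraicGeometry.Morphisms.FlatDescent
import Mathlib.RingTheory.AdicCompletion.AsTensorProduct
import Mathlib.RingTheory.AdicCompletion.LocalRing

/-! Finite schemes over the punctured spectrum and over the completion glue. -/

set_option autoImplicit false
set_option backward.isDefEq.respectTransparency false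
set_option linter.style.haveILetI false
universe u

open CategoryTheory CategoryTheory.Limits AlgebraicGeometry TensorProduct

namespace Groth.Agent.H11LefFEt.Glue

open Groth.Agent.H18Pur.Complete

variable {A : Type u} [CommRing A] [IsNoetherianRing A] [IsLocalRing A]

local notation "A'" => AdicCompletion (IsLocalRing.maximalIdeal A) A
local notation "s" => Spec.map (CommRingCat.ofHom (algebraMap A A'))
local notation "ι" => (Scheme.Opens.ι (FEt.puncturedSpec A))

theorem exists_finite_extend (V : Over (FEt.puncturedSpec A : Scheme.{u})) [IsFinite V.hom]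
    (Y' : Over (Spec (CommRingCat.of A'))) [IsFinite Y'.hom]
    (e : (Over.pullback (pullback.fst ι s)).obj V ≅ (Over.pullback (pullback.snd ι s)).obj Y') :
    ∃ Y : Over (Spec (CommRingCat.of A)), IsFinite Y.hom ∧ Nonempty ((Over.pullback ι).obj Y ≅ V) ∧
      Nonempty ((Over.pullback s).obj Y ≅ Y') := by
  let q := pullback.fst ι s
  let r := pullback.snd ι s
  let W := V.left
  let v : W ⟶ (FEt.puncturedSpec A : Scheme.{u}) := V.hom
  haveI : IsFinite v := ‹IsFinite V.hom›
  let y' : Y'.left ⟶ Spec (CommRingCat.of A') := Y'.hom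
  haveI : IsFinite y' := ‹IsFinite Y'.hom›
  let w : W ⟶ Spec (CommRingCat.of A) := v ≫ ι
  let W' := pullback v q
  let w' : W' ⟶ Spec (CommRingCat.of A') := pullback.snd v q ≫ r
  have hW : IsPullback (pullback.fst v q) w' w s :=
    (IsPullback.of_hasPullback v q).paste_vert (IsPullback.of_hasPullback ι s)
  haveI : CompactSpace (FEt.puncturedSpec A : Scheme.{u}) :=
    isCompact_iff_compactSpace.mp (TopologicalSpace.NoetherianSpace.isCompact _)
  haveI : CompactSpace W := QuasiCompact.compactSpace_of_compactSpace v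
  haveI : QuasiSeparatedSpace W := quasiSeparatedSpace_of_quasiSeparated v
  haveI : QuasiCompact q := inferInstance
  haveI : CompactSpace ↥(pullback ι s) := QuasiCompact.compactSpace_of_compactSpace q
  haveI : CompactSpace W' := QuasiCompact.compactSpace_of_compactSpace (pullback.snd v q)
  haveI : QuasiSeparatedSpace W' := quasiSeparatedSpace_of_quasiSeparated w'
  
  haveI : IsAffine Y'.left := isAffine_of_isAffineHom y'
  let e₁ : W' ⟶ pullback y' r := e.hom.left
  haveI : IsIso e₁ := inferInstanceAs (IsIso ((Over.forget _).map e.hom))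
  have he₁ : e₁ ≫ pullback.snd y' r = pullback.snd v q := Over.w e.hom
  let j : W' ⟶ Y'.left := e₁ ≫ pullback.fst y' r
  haveI : IsOpenImmersion r := MorphismProperty.pullback_snd _ _ inferInstance
  haveI : IsOpenImmersion (pullback.fst y' r) := MorphismProperty.pullback_fst _ _ inferInstance
  haveI : IsOpenImmersion j := inferInstance
  have hj : j ≫ y' = w' := by
    simp only [j, w', Category.assoc, pullback.condition, reassoc_of% he₁]
  -- the algebras
  let CW := Γ(W, ⊤)
  let CW' := Γ(W', ⊤)
  let B' := Γ(Y'.left, ⊤)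
  let a : CommRingCat.of A ⟶ CW := (Scheme.ΓSpecIso _).inv ≫ w.appTop
  let a' : CommRingCat.of A' ⟶ CW' := (Scheme.ΓSpecIso _).inv ≫ w'.appTop
  let b' : CommRingCat.of A' ⟶ B' := (Scheme.ΓSpecIso _).inv ≫ y'.appTop
  let g' : CW ⟶ CW' := (pullback.fst v q).appTop
  have hag : a ≫ g' = CommRingCat.ofHom (algebraMap A A') ≫ a' := by
    simp only [a, a', g', Category.assoc, ← Scheme.Hom.comp_appTop, hW.w]
    rw [Scheme.Hom.comp_appTop, ← Category.assoc, ← Category.assoc, Scheme.ΓSpecIso_inv_naturality]
  have hbj : b' ≫ j.appTop = a' := by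
    simp only [a', b', Category.assoc, ← Scheme.Hom.comp_appTop, hj]
  letI : Algebra A CW := a.hom.toAlgebra
  letI : Algebra A' CW' := a'.hom.toAlgebra
  letI : Algebra A CW' := (a'.hom.comp (algebraMap A A')).toAlgebra
  haveI : IsScalarTower A A' CW' := .of_algebraMap_eq fun _ => rfl
  letI : Algebra A' B' := b'.hom.toAlgebra
  letI : Algebra A B' := (b'.hom.comp (algebraMap A A')).toAlgebra
  haveI : IsScalarTower A A' B' := .of_algebraMap_eq fun _ => rfl
  letI : Algebra CW CW' := g'.hom.toAlgebra
  haveI : IsScalarTower A CW CW' := .of_algebraMap_eq fun x => congr($hag x).symm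
  haveI : Algebra.IsPushout A A' CW CW' := by
    refine CommRingCat.isPushout_iff_isPushout.mp ?_
    exact ((H12AlgSp.isPushout_appTop_of_flat hW).of_iso (Scheme.ΓSpecIso _) (Iso.refl _)
      (Scheme.ΓSpecIso _) (Iso.refl _) (by rw [Iso.refl_hom, Category.comp_id]; exact (Iso.hom_inv_id_assoc _ _).symm) (Scheme.ΓSpecIso_naturality _)
      (by simp [g']; rfl) (by rw [Iso.refl_hom, Category.comp_id]; exact (Iso.hom_inv_id_assoc _ _).symm)).flip
  let φ : B' →ₐ[A'] CW' := ⟨j.appTop.hom, fun x => congr($hbj x)⟩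
  let ιW : CW →ₐ[A] CW' := IsScalarTower.toAlgHom A CW CW'
  let F := fib φ.toLinearMap ιW.toLinearMap
  let B : Subalgebra A (B' × CW) :=
    { carrier := F
      mul_mem' := fun {x y} hx hy => by
        rw [SetLike.mem_coe, mem_fib] at hx hy ⊢
        simp only [AlgHom.toLinearMap_apply, Prod.fst_mul, Prod.snd_mul, map_mul] at hx hy ⊢
        rw [hx, hy]
      one_mem' := mem_fib.2 (by simp)
      add_mem' := fun hx hy => F.add_mem hx hy
      zero_mem' := F.zero_mem
      algebraMap_mem' := fun x => mem_fib.2 (by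
        show φ (algebraMap A B' x) = ιW (algebraMap A CW x)
        rw [ιW.commutes, IsScalarTower.algebraMap_apply A A' B', φ.commutes, ← IsScalarTower.algebraMap_apply]) }
  -- torsion kernel and cokernel
  have hm : (IsLocalRing.maximalIdeal A).FG := IsNoetherian.noetherian _
  have hrange : ∀ f ∈ IsLocalRing.maximalIdeal A, Y'.left.basicOpen (algebraMap A B' f) ≤ j.opensRange := by
    intro f hf y hy
    have h1 : y ∈ (y' ≫ s) ⁻¹ᵁ (Spec (CommRingCat.of A)).basicOpen
        ((Scheme.ΓSpecIso (CommRingCat.of A)).inv f) := by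
      have eq : (y' ≫ s).appTop ((Scheme.ΓSpecIso (CommRingCat.of A)).inv f) = algebraMap A B' f := by
        show ((Scheme.ΓSpecIso _).inv ≫ (y' ≫ s).appTop) f =
          (CommRingCat.ofHom (algebraMap A A') ≫ (Scheme.ΓSpecIso _).inv ≫ y'.appTop) f
        rw [Scheme.ΓSpecIso_inv_naturality_assoc, ← Scheme.Hom.comp_appTop]
      rw [Scheme.preimage_basicOpen_top, eq]
      exact hy
    have h1' : (y' ≫ s) y ∈ (Spec (CommRingCat.of A)).basicOpen
        ((Scheme.ΓSpecIso (CommRingCat.of A)).inv f) := h1
    rw [basicOpen_eq_of_affine] at h1'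
    let z : PrimeSpectrum A := (y' ≫ s) y
    have h5 : f ∉ z.asIdeal := h1'
    have h2 : s (y' y) ∈ FEt.puncturedSpec A := fun h => h5 (by
      rw [show z = IsLocalRing.closedPoint A from Set.mem_singleton_iff.1 h]
      exact hf)
    have h3 : y' y ∈ Set.range r := by
      rw [Scheme.Pullback.range_snd, Scheme.Opens.range_ι]
      exact h2
    have h4 : y ∈ Set.range (pullback.fst y' r) := by
      rw [Scheme.Pullback.range_fst]
      exact h3
    obtain ⟨z, hz⟩ := h4
    refine ⟨inv e₁ z, ?_⟩
    show (inv e₁ ≫ e₁ ≫ pullback.fst y' r) z = y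
    rw [IsIso.inv_hom_id_assoc, hz]
  haveI : Module.Flat A A' := AdicCompletion.flat_of_isNoetherian _
  have hbc := isBaseChange_fib φ.toLinearMap ιW.toLinearMap
    (Algebra.IsPushout.out (R := A) (S := A') (R' := CW) (S' := CW'))
    (fun n => IsLocalRing.maximalIdeal A ^ n) (fun _ _ h => Ideal.pow_le_pow_right h)
    (cong_completion A _ hm)
    (fun b hb => exists_pow_smul_mem _ hm ⊥ b (fun f hf => by
      obtain ⟨n, hn⟩ := (torsion_at j _ (hrange f hf)).1 b hb
      exact ⟨n, by rw [Submodule.mem_bot, Algebra.smul_def, map_pow]; exact hn⟩))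
    (fun p => exists_pow_smul_mem _ hm ((LinearMap.range φ.toLinearMap).restrictScalars A) p (fun f hf => by
      obtain ⟨n, c, hc⟩ := (torsion_at j _ (hrange f hf)).2 p
      refine ⟨n, c, ?_⟩
      rw [Algebra.smul_def, map_pow]
      refine hc.symm.trans ?_
      congr 2
      exact congr($hbj (algebraMap A A' f))))
  let π₁ : B →ₐ[A] B' := (AlgHom.fst A B' CW).comp B.val
  let π₂ : B →ₐ[A] CW := (AlgHom.snd A B' CW).comp B.val
  letI : Algebra B B' := π₁.toRingHom.toAlgebra
  haveI : IsScalarTower A B B' := .of_algebraMap_eq fun x => (π₁.commutes x).symm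
  haveI : Algebra.IsPushout A A' B B' := ⟨hbc⟩
  -- the cover
  let sB : Spec (CommRingCat.of B) ⟶ Spec (CommRingCat.of A) := Spec.map (CommRingCat.ofHom (algebraMap A B))
  let c : Y'.left ⟶ Spec (CommRingCat.of B) := Y'.left.isoSpec.hom ≫ Spec.map (CommRingCat.ofHom π₁.toRingHom)
  have hY : IsPullback c y' sB s := by
    have h0 := isPullback_SpecMap_of_isPushout _ _ _ _ (CommRingCat.isPushout_of_isPushout A A' B B')
    refine h0.flip.of_iso Y'.left.isoSpec.symm (Iso.refl _) (Iso.refl _) (Iso.refl _) ?_ ?_ ?_ ?_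
    · simp [c]; rfl
    · have h5 : Y'.left.toSpecΓ ≫ Spec.map b' = y' := toSpecΓ_structure y'
      rw [Iso.refl_hom, Category.comp_id, Iso.symm_hom, ← h5]
      simp [Scheme.isoSpec_hom]
      rfl
    · simp [sB]
    · simp
  haveI : Surjective s := inferInstance
  have hfpqc : Groth.Agent.H18Descent.fpqc s := ⟨⟨inferInstance, inferInstance⟩, inferInstance⟩
  haveI hBf : IsFinite sB := MorphismProperty.of_isPullback_of_descendsAlong (P := @IsFinite) hY.flip hfpqc ‹IsFinite Y'.hom›
  let g : W ⟶ Spec (CommRingCat.of B) := W.toSpecΓ ≫ Spec.map (CommRingCat.ofHom π₂.toRingHom)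
  have hg : g ≫ sB = w := by
    rw [Category.assoc, ← Spec.map_comp, ← CommRingCat.ofHom_comp, AlgHom.toRingHom_eq_coe, π₂.comp_algebraMap]
    exact toSpecΓ_structure w
  let u : W ⟶ pullback sB ι := pullback.lift g v hg
  let π : pullback y' r ⟶ pullback sB ι :=
    pullback.lift (pullback.fst _ _ ≫ c) (pullback.snd _ _ ≫ q) (by
      simp only [Category.assoc, hY.w, pullback.condition_assoc]
      rw [show q ≫ ι = r ≫ s from pullback.condition])
  have hπ : IsPullback π (pullback.snd y' r) (pullback.snd sB ι) q := by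
    refine IsPullback.of_right ?_ (pullback.lift_snd _ _ _) (IsPullback.of_hasPullback sB ι)
    have := (IsPullback.of_hasPullback y' r).paste_horiz hY
    rw [show r ≫ s = q ≫ ι from pullback.condition.symm] at this
    simpa [π] using this
  have hu : pullback.fst v q ≫ u = e₁ ≫ π := by
    apply pullback.hom_ext
    · have hgc : g' = (pullback.fst v q).appTop := rfl
      simp only [Category.assoc, u, π, pullback.lift_fst, g, c]
      rw [← Category.assoc e₁, show e₁ ≫ pullback.fst y' r = j from rfl, ← Category.assoc j,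
        Scheme.isoSpec_hom, Scheme.toSpecΓ_naturality, ← Category.assoc]
      erw [Scheme.toSpecΓ_naturality (pullback.fst v q)]
      rw [Category.assoc, Category.assoc, ← Spec.map_comp, ← Spec.map_comp]
      congr 2
      exact CommRingCat.hom_ext (RingHom.ext fun x => (mem_fib.1 x.2).symm)
    · simp only [Category.assoc, u, π, pullback.lift_snd]
      rw [reassoc_of% he₁]
      exact pullback.condition
  have hu' : IsPullback (pullback.fst v q) e₁ u π := by
    refine IsPullback.of_bot ?_ hu hπ
    rw [he₁, pullback.lift_snd]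
    exact IsPullback.of_hasPullback v q
  haveI : QuasiCompact s := inferInstance
  have hπf : (@Surjective ⊓ @Flat ⊓ @QuasiCompact : MorphismProperty Scheme.{u}) π := by
    have hq : (@Surjective ⊓ @Flat ⊓ @QuasiCompact : MorphismProperty Scheme.{u}) q :=
      ⟨⟨inferInstance, inferInstance⟩, inferInstance⟩
    exact MorphismProperty.of_isPullback hπ.flip hq
  haveI : IsIso u := MorphismProperty.of_isPullback_of_descendsAlong (P := MorphismProperty.isomorphisms Scheme)
    hu'.flip hπf (inferInstanceAs (IsIso e₁))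
  exact ⟨Over.mk sB, hBf, ⟨(Over.isoMk (f := V) (g := (Over.pullback ι).obj (Over.mk sB)) (asIso u)
    (pullback.lift_snd _ _ _)).symm⟩,
    ⟨(Over.isoMk (f := Y') (g := (Over.pullback s).obj (Over.mk sB)) hY.isoPullback
      hY.isoPullback_hom_snd).symm⟩⟩

end Groth.Agent.H11LefFEt.Glue
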