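import Groth.Agent.H11LefFEt.AffineDescent
import Groth.Agent.H11LefFEt.Criterion
import Groth.Agent.H11LefFEt.Dual
import Groth.Prelude.Def_FSch3

/-!
# Restriction to a closed subscheme of a punctured spectrum over a henselian pair
-/

set_option autoImplicit false
set_option linter.style.haveILetI false
set_option backward.isDefEq.respectTransparency false

universe u

open CategoryTheory CategoryTheory.Limits AlgebraicGeometry Opposite TopologicalSpace
open Groth.Agent Groth.Agent.H29Ref Groth.Agent.H10Coh.SheafHom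

namespace Groth.Agent.H11LefFEt.Descent

variable {A : Type u} [CommRing A]

theorem range_restrict_V (U : (Spec (CommRingCat.of A)).Opens) (f : A) :
    Set.range (pullback.fst U.ι (Spec.map (CommRingCat.ofHom (Ideal.Quotient.mk (Ideal.span {f}))))) =
      U.ι ⁻¹' (PrimeSpectrum.basicOpen f : Set (PrimeSpectrum A))ᶜ := by
  rw [Scheme.Pullback.range_fst]
  refine congrArg (U.ι ⁻¹' ·) ?_
  refine (range_comap_of_surjective (f := Ideal.Quotient.mk (Ideal.span {f})) _ Ideal.Quotient.mk_surjective).trans ?_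
  rw [Ideal.mk_ker, PrimeSpectrum.zeroLocus_span, PrimeSpectrum.basicOpen_eq_zeroLocus_compl, compl_compl]

variable {f : A} {A' : Type u} [CommRing A'] [Algebra A A']

/-- Full faithfulness of restriction descends from a completion to the henselian pair. -/
theorem full_faithful_of_completion [HenselianRing A (Ideal.span {f})] [Module.FaithfullyFlat A A']
    (hjac : ∀ m : Ideal A', m.IsMaximal → algebraMap A A' f ∈ m)
    (hsurj : ∀ (M : ℕ) (a' : A'), ∃ a : A, a' - algebraMap A A' a ∈ Ideal.span {algebraMap A A' (f ^ M)})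
    (U : (Spec (CommRingCat.of A)).Opens) (hU : PrimeSpectrum.basicOpen f ≤ U)
    [IsLocallyNoetherian ((Spec.map (CommRingCat.ofHom (algebraMap A A')) ⁻¹ᵁ U : (Spec (CommRingCat.of A')).Opens) : Scheme.{u})]
    (h : ∀ D, FlatMod.IsFinLocFree D → Lef.HomToFormalBijective
      ((FSch.idealSpec A' (Ideal.span {algebraMap A A' f})).comap
        (Spec.map (CommRingCat.ofHom (algebraMap A A')) ⁻¹ᵁ U : (Spec (CommRingCat.of A')).Opens).ι) D) :
    (FEt.restrict (pullback.fst U.ι (Spec.map (CommRingCat.ofHom (Ideal.Quotient.mk (Ideal.span {f})))))).Full ∧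
      (FEt.restrict (pullback.fst U.ι (Spec.map (CommRingCat.ofHom (Ideal.Quotient.mk (Ideal.span {f})))))).Faithful := by
  let φ := Spec.map (CommRingCat.ofHom (algebraMap A A'))
  let U' := φ ⁻¹ᵁ U
  let g : (U' : Scheme.{u}) ⟶ (U : Scheme.{u}) := φ ∣_ U
  let J' := (FSch.idealSpec A' (Ideal.span {algebraMap A A' f})).comap U'.ι
  let j := pullback.fst U.ι (Spec.map (CommRingCat.ofHom (Ideal.Quotient.mk (Ideal.span {f}))))
  haveI : IsClosedImmersion (Spec.map (CommRingCat.ofHom (Ideal.Quotient.mk (Ideal.span {f})))) :=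
    IsClosedImmersion.spec_of_surjective _ Ideal.Quotient.mk_surjective
  haveI : Flat φ := by
    rw [HasRingHomProperty.Spec_iff (P := @Flat)]
    exact (RingHom.flat_algebraMap_iff).mpr inferInstance
  haveI : Surjective φ := ⟨PrimeSpectrum.comap_surjective_of_faithfullyFlat⟩
  have hg : IsPullback g U'.ι U.ι φ := isPullback_morphismRestrict φ U
  haveI : Flat g := MorphismProperty.of_isPullback (P := @Flat) hg.flip inferInstance
  haveI : Surjective g := MorphismProperty.of_isPullback (P := @Surjective) hg.flip inferInstance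
  haveI : QuasiCompact g := MorphismProperty.of_isPullback (P := @QuasiCompact) hg.flip inferInstance
  have hsupp : (J'.support : Set (U' : Scheme.{u})) = g ⁻¹' Set.range j := by
    refine Set.ext fun z => ?_
    haveI : IsClosedImmersion (Spec.map (CommRingCat.ofHom (Ideal.Quotient.mk (Ideal.span {algebraMap A A' f})))) :=
      IsClosedImmersion.spec_of_surjective _ Ideal.Quotient.mk_surjective
    have h1 : z ∈ (J'.support : Set (U' : Scheme.{u})) ↔
        U'.ι z ∈ ((FSch.idealSpec A' (Ideal.span {algebraMap A A' f})).support : Set (Spec (CommRingCat.of A'))) := by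
      show z ∈ (((FSch.idealSpec A' (Ideal.span {algebraMap A A' f})).comap U'.ι).support : Set (U' : Scheme.{u})) ↔ _
      rw [Scheme.IdealSheafData.support_comap]
      rfl
    rw [h1, FSch.idealSpec, Scheme.Hom.support_ker, Set.mem_preimage, range_restrict_V, Set.mem_preimage,
      show U.ι (g z) = φ (U'.ι z) from congr($(hg.w) z),
      (Spec.map (CommRingCat.ofHom (Ideal.Quotient.mk (Ideal.span {algebraMap A A' f})))).isClosedEmbedding.isClosed_range.closure_eq,
      show Set.range (Spec.map (CommRingCat.ofHom (Ideal.Quotient.mk (Ideal.span {algebraMap A A' f})))) =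
        (PrimeSpectrum.basicOpen (algebraMap A A' f) : Set (PrimeSpectrum A'))ᶜ by
      refine (range_comap_of_surjective (f := Ideal.Quotient.mk (Ideal.span {algebraMap A A' f})) _
        Ideal.Quotient.mk_surjective).trans ?_
      rw [Ideal.mk_ker, PrimeSpectrum.zeroLocus_span, PrimeSpectrum.basicOpen_eq_zeroLocus_compl, compl_compl]]
    exact Iff.rfl
  have hFS : ∀ V' : FEt.Cat (U' : Scheme.{u}), FormalSections J' V'.hom := fun V' => by
    haveI : IsFinite V'.hom := V'.prop.1
    haveI : Etale V'.hom := V'.prop.2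
    have hG : FlatMod.IsFinLocFree (pO V'.hom) := H29Disc.isFinLocFree_pushO (Y := (U' : Scheme.{u})) (f := V'.hom)
    exact formalSections_of_dual (X := (U' : Scheme.{u})) J' V'.hom hG
      (h _ (isFinLocFree_homSh hG (H05EGA4.LefConn.isFinLocFree_unit _)))
  have hm : H18Et.FEtRestrict.MeetsClopens j := fun W hW hne => by
    obtain ⟨x', hx'W, hx'⟩ := meets_of_formalSections J' (𝟙 (U' : Scheme.{u}))
      (hFS (MorphismProperty.Over.mk ⊤ (𝟙 _) (FEt.prop.id_mem _))) (hW.preimage g.continuous)
      (hne.preimage g.surjective)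
    exact ⟨g x', hx'W, (hsupp.le hx' :)⟩
  refine ⟨H18Et.FEtRestrict.full _ hm fun V S' hS' => ?_, H18Et.FEtRestrict.faithful _ hm⟩
  haveI : IsFinite V.hom := V.prop.1
  let k := pullback.fst V.hom j
  let Z : Set V.left := V.hom ⁻¹' Set.range j
  have hkZ : Set.range k = Z := Scheme.Pullback.range_fst _ _
  have hkinj : Function.Injective k := k.isClosedEmbedding.injective
  let S : Set V.left := k '' S'
  have hSc : IsClosed S := k.isClosedEmbedding.isClosedMap _ hS'.1
  have hSc' : IsClosed (k '' S'ᶜ) := k.isClosedEmbedding.isClosedMap _ hS'.compl.1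
  have hSZ : S ⊆ Z := hkZ ▸ Set.image_subset_range _ _
  let V' := (FEt.restrict g).obj V
  let p : V'.left ⟶ V.left := pullback.fst V.hom g
  let m := pullback.fst V'.hom J'.subschemeι ≫ p
  have hmZ : ∀ z, m z ∈ Z := fun z => by
    have h1 : pullback.fst V'.hom J'.subschemeι z ∈ V'.hom ⁻¹' (J'.support : Set (U' : Scheme.{u})) :=
      (range_fst_subscheme J' V'.hom).le ⟨z, rfl⟩
    rw [Set.mem_preimage, hsupp] at h1
    show V.hom (m z) ∈ Set.range j
    rw [show V.hom (m z) = g (V'.hom (pullback.fst V'.hom J'.subschemeι z)) from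
      congr($(pullback.condition (f := V.hom) (g := g)) (pullback.fst V'.hom J'.subschemeι z))]
    exact h1
  have hT : IsClopen (m ⁻¹' S) := by
    refine ⟨hSc.preimage m.continuous, ?_⟩
    have : m ⁻¹' S = (m ⁻¹' (k '' S'ᶜ))ᶜ := by
      ext z
      obtain ⟨w, hw⟩ := hkZ.ge (hmZ z)
      simp only [Set.mem_preimage, Set.mem_compl_iff, S, ← hw, hkinj.mem_set_image]
      exact not_not.symm
    rw [this]
    exact (hSc'.preimage m.continuous).isOpen_compl
  obtain ⟨W₁, hW₁, hW₁S⟩ := exists_clopen_of_formalSections J' V'.hom (hFS V') _ hT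
  have hVp : IsPullback p (V'.hom ≫ U'.ι) (V.hom ≫ U.ι) φ :=
    (IsPullback.of_hasPullback V.hom g).paste_vert hg
  haveI : Flat p := MorphismProperty.of_isPullback (P := @Flat) (IsPullback.of_hasPullback V.hom g).flip inferInstance
  haveI : Surjective p := MorphismProperty.of_isPullback (P := @Surjective) (IsPullback.of_hasPullback V.hom g).flip inferInstance
  haveI : QuasiCompact p := MorphismProperty.of_isPullback (P := @QuasiCompact) (IsPullback.of_hasPullback V.hom g).flip inferInstance
  obtain ⟨Wf, hWfo, hWfD, hWf⟩ := exists_clopen_descent hjac hsurj hU V.hom hVp W₁ hW₁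
  have hD : ∀ v : V.left, (V.hom ≫ U.ι) v ∈ (PrimeSpectrum.basicOpen f : Set (PrimeSpectrum A)) ↔ v ∉ Z := fun v => by
    show _ ↔ V.hom v ∉ Set.range j
    rw [range_restrict_V]
    exact not_not.symm
  have hpre : p ⁻¹' (S ∪ Wf) = W₁ := by
    ext y
    have hy' : p y ∈ Wf ↔ y ∈ W₁ ∧ (V.hom ≫ U.ι) (p y) ∈ (PrimeSpectrum.basicOpen f : Set (PrimeSpectrum A)) :=
      Set.ext_iff.1 hWf y
    simp only [Set.preimage_union, Set.mem_union, Set.mem_preimage, hy']
    by_cases hy : p y ∈ Z
    · obtain ⟨t, ht⟩ : y ∈ Set.range (pullback.fst V'.hom J'.subschemeι) := by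
        rw [range_fst_subscheme, Set.mem_preimage, hsupp, Set.mem_preimage,
          show g (V'.hom y) = V.hom (p y) from congr($(pullback.condition (f := V.hom) (g := g)) y).symm]
        exact hy
      have h2 : (p y ∈ S ↔ y ∈ W₁) := by
        rw [← ht]
        exact (Set.ext_iff.1 hW₁S t).symm
      simp only [h2, (hD (p y)).not.2 (not_not.2 hy), and_false, or_false]
    · simp only [(hD (p y)).2 hy, and_true]
      exact ⟨fun h => h.elim (fun h' => absurd (hSZ h') hy) id, Or.inr⟩
  refine ⟨S ∪ Wf, ⟨?_, ?_⟩, ?_⟩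
  · exact (Flat.isQuotientMap_of_surjective p).isClosed_preimage.1 (hpre ▸ hW₁.1)
  · exact (Flat.isQuotientMap_of_surjective p).isOpen_preimage.1 (hpre ▸ hW₁.2)
  · ext z
    simp only [Set.preimage_union, Set.mem_union, Set.mem_preimage, S]
    have hz : k z ∈ Z := hkZ.le ⟨z, rfl⟩
    refine ⟨fun h => h.elim (fun h' => hkinj.mem_set_image.1 h') fun h' => absurd hz ((hD _).1 (hWfD h')),
      fun h => Or.inl ⟨z, h, rfl⟩⟩

end Groth.Agent.H11LefFEt.Descent
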