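import Mathlib
import Groth.Agent.H9Hens.Pair

/-!
# Idempotents away from `f` descend along a completion of a henselian pair
-/

set_option autoImplicit false
set_option linter.style.haveILetI false

universe u v w

open scoped TensorProduct

namespace Groth.Agent.H11LefFEt.Idem

variable {A : Type u} [CommRing A] {A' : Type v} [CommRing A'] [Algebra A A']

/-- Tensoring with an algebra surjecting modulo a power of `f` is surjective modulo that power. -/
theorem exists_tmul_sub {B : Type w} [CommRing B] [Algebra A B] (f : A) (M : ℕ)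
    (hsurj : ∀ a' : A', ∃ a : A, a' - algebraMap A A' a ∈ Ideal.span {algebraMap A A' (f ^ M)}) (b' : A' ⊗[A] B) :
    ∃ (b : B) (w : A' ⊗[A] B), b' = 1 ⊗ₜ b + f ^ M • w := by
  induction b' using TensorProduct.induction_on with
  | zero => exact ⟨0, 0, by simp⟩
  | add x y hx hy =>
    obtain ⟨a, u, rfl⟩ := hx
    obtain ⟨b, w, rfl⟩ := hy
    exact ⟨a + b, u + w, by rw [TensorProduct.tmul_add, smul_add]; abel⟩
  | tmul a' b =>
    obtain ⟨a, ha⟩ := hsurj a'
    obtain ⟨c, hc⟩ := Ideal.mem_span_singleton'.1 ha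
    refine ⟨a • b, c ⊗ₜ b, ?_⟩
    rw [← TensorProduct.smul_tmul, TensorProduct.smul_tmul', ← TensorProduct.add_tmul, ← Algebra.algebraMap_eq_smul_one,
      Algebra.smul_def, mul_comm, hc, add_sub_cancel]

/-- Divisibility is reflected by faithfully flat base change. -/
theorem exists_smul_eq_of_tmul {B : Type w} [AddCommGroup B] [Module A B] [Module.FaithfullyFlat A A'] (a : A) {r : B}
    {w : A' ⊗[A] B} (h : (1 : A') ⊗ₜ[A] r = a • w) : ∃ s : B, r = a • s := by
  let q := (Ideal.span {a} • (⊤ : Submodule A B)).mkQ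
  have hw : ∀ w : A' ⊗[A] B, q.lTensor A' (a • w) = 0 := fun w => by
    induction w using TensorProduct.induction_on with
    | zero => simp
    | add x y hx hy => rw [smul_add, map_add, hx, hy, add_zero]
    | tmul x b =>
      rw [← TensorProduct.tmul_smul, LinearMap.lTensor_tmul,
        (Submodule.Quotient.mk_eq_zero _).2 (Submodule.smul_mem_smul (Ideal.mem_span_singleton_self a) Submodule.mem_top) |>
          (fun h => show q (a • b) = 0 from h), TensorProduct.tmul_zero]
  have h0 : q r = 0 := by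
    refine Module.FaithfullyFlat.tensorProduct_mk_injective (A := A) (B := A') _ ?_
    show (1 : A') ⊗ₜ[A] q r = (1 : A') ⊗ₜ[A] 0
    rw [TensorProduct.tmul_zero, ← LinearMap.lTensor_tmul, h, hw]
  have h1 := (Submodule.Quotient.mk_eq_zero _).1 h0
  rw [Submodule.ideal_span_singleton_smul, Submodule.mem_smul_pointwise_iff_exists] at h1
  obtain ⟨s, -, hs⟩ := h1
  exact ⟨s, hs.symm⟩

/-- Idempotents of a cover of `Spec A[1/f]` come uniquely from the henselian pair. -/
theorem exists_descent (f : A) [HenselianRing A (Ideal.span {f})] [Module.FaithfullyFlat A A']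
    (hjac : ∀ m : Ideal A', m.IsMaximal → algebraMap A A' f ∈ m)
    (hsurj : ∀ (M : ℕ) (a' : A'), ∃ a : A, a' - algebraMap A A' a ∈ Ideal.span {algebraMap A A' (f ^ M)})
    {R : Type w} [CommRing R] [Algebra A R] (hu : IsUnit (algebraMap A R f))
    (hint : ∀ x : R, ∃ k : ℕ, IsIntegral A (f ^ k • x)) (e' : A' ⊗[A] R) (he' : IsIdempotentElem e') :
    ∃ e : R, IsIdempotentElem e ∧ (1 : A') ⊗ₜ[A] e = e' := by
  let B := integralClosure A R
  let ι : A' ⊗[A] B →ₐ[A'] A' ⊗[A] R := Algebra.TensorProduct.map (AlgHom.id A' A') B.val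
  have hι : Function.Injective ι :=
    Module.Flat.lTensor_preserves_injective_linearMap (M := A') B.val.toLinearMap Subtype.val_injective
  haveI : Algebra.IsIntegral A B := ⟨fun x => ((isIntegral_algHom_iff B.val Subtype.val_injective).1 x.2)⟩
  haveI : Algebra.IsIntegral A' (A' ⊗[A] B) := Algebra.IsIntegral.tensorProduct A A' B
  haveI hB : HenselianRing B ((Ideal.span {f}).map (algebraMap A B)) := H9Hens.henselianRing_of_isIntegral B
  have hlift : ∀ y : A' ⊗[A] R, ∃ (k : ℕ) (b : A' ⊗[A] B), f ^ k • y = ι b := fun y => by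
    induction y using TensorProduct.induction_on with
    | zero => exact ⟨0, 0, by simp⟩
    | add x y hx hy =>
      obtain ⟨k, b, hb⟩ := hx
      obtain ⟨l, c, hc⟩ := hy
      refine ⟨k + l, f ^ l • b + f ^ k • c, ?_⟩
      rw [map_add, AlgHom.map_smul_of_tower, AlgHom.map_smul_of_tower, ← hb, ← hc, smul_add, smul_smul, smul_smul,
        ← pow_add, ← pow_add, add_comm l k]
    | tmul a x =>
      obtain ⟨k, hk⟩ := hint x
      exact ⟨k, a ⊗ₜ ⟨f ^ k • x, hk⟩, by simp [ι, B]⟩
  obtain ⟨N, b', hb'⟩ := hlift e'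
  have hsq : b' * b' = f ^ N • b' := hι (by
    rw [map_mul, AlgHom.map_smul_of_tower, ← hb', smul_mul_smul_comm, he'.eq, smul_smul])
  -- approximation
  obtain ⟨b, w, hbw⟩ := exists_tmul_sub (B := B) f (2 * N + (N + 1)) (hsurj _) b'
  set P : A := f ^ (2 * N + (N + 1)) with hP
  obtain ⟨s, hs⟩ := exists_smul_eq_of_tmul (A' := A') P (r := b * b - f ^ N • b)
    (w := -((2 : A) • (((1 : A') ⊗ₜ b) * w)) - P • (w * w) + f ^ N • w) (by
      have h := hsq
      rw [hbw] at h
      have hl : (1 : A') ⊗ₜ[A] (b * b - f ^ N • b) =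
          (1 : A') ⊗ₜ b * (1 : A') ⊗ₜ b - f ^ N • ((1 : A') ⊗ₜ[A] b) := by
        rw [TensorProduct.tmul_sub, TensorProduct.tmul_smul, Algebra.TensorProduct.tmul_mul_tmul, one_mul]
      rw [hl]
      have key : ∀ (a : A) (x : A' ⊗[A] B), a • x = algebraMap A (A' ⊗[A] B) a * x := fun a x => Algebra.smul_def a x
      rw [key] at h
      simp only [key, map_pow, map_ofNat, hP] at h ⊢
      simp only [mul_add] at h ⊢
      linear_combination h)
  let g : B := algebraMap A B f
  have hs' : b * b - g ^ N * b = g ^ (2 * N) * (g ^ (N + 1) * s) := by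
    rw [← mul_assoc, ← pow_add]
    simpa [g, hP, Algebra.smul_def] using hs
  have hg : g ∈ (⊥ : Ideal B).jacobson :=
    hB.jac (Ideal.mem_map_of_mem _ (Ideal.mem_span_singleton_self f))
  obtain ⟨v, hv⟩ : IsUnit (1 + 4 * (g ^ (N + 1) * s)) := by
    have h := Ideal.mem_jacobson_bot.1 hg (4 * (g ^ N * s))
    convert h using 1; ring
  obtain ⟨z, hz, hzm⟩ := hB.is_henselian
    (Polynomial.X ^ 2 + Polynomial.X + Polynomial.C (g ^ (N + 1) * s * ↑v⁻¹)) (by monicity!) 0
    (by
      simp only [Polynomial.eval_add, Polynomial.eval_pow, Polynomial.eval_X, Polynomial.eval_C]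
      rw [zero_pow (by norm_num), zero_add, zero_add, pow_succ]
      exact Ideal.mul_mem_right _ _ (Ideal.mul_mem_right _ _
        (Ideal.mul_mem_left _ _ (Ideal.mem_map_of_mem _ (Ideal.mem_span_singleton_self f)))))
    (by simp [Polynomial.derivative_add, -map_mul, -map_pow])
  simp only [Polynomial.IsRoot, Polynomial.eval_add, Polynomial.eval_pow, Polynomial.eval_X, Polynomial.eval_C] at hz
  rw [sub_zero, Ideal.map_span, Set.image_singleton, Ideal.mem_span_singleton'] at hzm
  obtain ⟨z₁, hz₁⟩ := hzm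
  have hu1 : IsUnit (1 + z) := by
    have h := Ideal.mem_jacobson_bot.1 hg z₁
    convert h using 1; rw [← hz₁]; ring
  obtain ⟨t, ht⟩ := hu1
  have hzg : z = g ^ (N + 1) * (-(s * ↑v⁻¹ * ↑t⁻¹)) := by
    refine t.isUnit.mul_right_cancel ?_
    rw [show g ^ (N + 1) * -(s * ↑v⁻¹ * ↑t⁻¹) * (t : B) = -(g ^ (N + 1) * s * ↑v⁻¹) * (↑t⁻¹ * (t : B)) by ring,
      Units.inv_mul, mul_one, ht]
    linear_combination hz
  let d : B := b + (2 * b - g ^ N) * z
  have hd : d * d - g ^ N * d = 0 := by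
    have hvv : (v : B) * ↑v⁻¹ = 1 := v.mul_inv
    linear_combination (1 + 4 * z + 4 * z ^ 2) * hs' + g ^ (2 * N) * (1 + 4 * (g ^ (N + 1) * s)) * hz -
      g ^ (2 * N) * (g ^ (N + 1) * s) * ↑v⁻¹ * (-hv) - g ^ (2 * N) * (g ^ (N + 1) * s) * hvv
  obtain ⟨c, hc⟩ := hu.pow N
  have hcg : (c : R) = (B.val g) ^ N := by rw [hc]; rfl
  refine ⟨↑c⁻¹ * (d : R), ?_, ?_⟩
  · have h := congrArg B.val hd
    rw [map_sub, map_mul, map_mul, map_pow, map_zero, sub_eq_zero, ← hcg] at h
    show ↑c⁻¹ * (d : R) * (↑c⁻¹ * (d : R)) = ↑c⁻¹ * (d : R)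
    rw [mul_mul_mul_comm, show (d : R) * d = c * d from h, ← mul_assoc, mul_assoc (↑c⁻¹ : R), Units.inv_mul, mul_one]
  · set e := ↑c⁻¹ * (d : R) with he
    have hidem : IsIdempotentElem ((1 : A') ⊗ₜ[A] e) := by
      have h := congrArg B.val hd
      rw [map_sub, map_mul, map_mul, map_pow, map_zero, sub_eq_zero, ← hcg] at h
      show _ * _ = _
      rw [Algebra.TensorProduct.tmul_mul_tmul, one_mul, he, mul_mul_mul_comm, show (d : R) * d = c * d from h,
        ← mul_assoc, mul_assoc (↑c⁻¹ : R), Units.inv_mul, mul_one]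
    let z₂ : B := -(s * ↑v⁻¹ * ↑t⁻¹)
    let W : A' ⊗[A] B := (1 : A') ⊗ₜ[A] ((2 * b - g ^ N) * z₂) - f ^ (2 * N) • w
    have hW : (1 : A') ⊗ₜ[A] d - b' = f ^ (N + 1) • W := by
      rw [hbw, smul_sub, smul_smul, ← pow_add, ← TensorProduct.tmul_smul, add_comm (N + 1) (2 * N)]
      have : d = b + f ^ (N + 1) • ((2 * b - g ^ N) * z₂) := by
        simp only [d, z₂, Algebra.smul_def, map_pow]
        conv_lhs => rw [hzg]
        ring
      rw [this, TensorProduct.tmul_add]; abel
    have hδ : (1 : A') ⊗ₜ[A] e - e' = ι (f • W) := by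
      have hf : IsUnit (algebraMap A (A' ⊗[A] R) (f ^ N)) := by
        have := (hu.pow N).map (Algebra.TensorProduct.includeRight : R →ₐ[A] A' ⊗[A] R)
        rwa [← map_pow, AlgHom.commutes] at this
      refine hf.mul_left_cancel ?_
      rw [← Algebra.smul_def, ← Algebra.smul_def, smul_sub, hb', AlgHom.map_smul_of_tower, smul_smul, ← pow_succ,
        ← AlgHom.map_smul_of_tower, ← hW, map_sub, ← TensorProduct.tmul_smul]
      congr 1
      show (1 : A') ⊗ₜ[A] (f ^ N • e) = (1 : A') ⊗ₜ[A] (d : R)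
      rw [he, Algebra.smul_def, map_pow, ← hc, ← mul_assoc, Units.mul_inv, one_mul]
    set δ := (1 : A') ⊗ₜ[A] e - e' with hδ'
    have h3 : δ * (1 - δ * δ) = 0 := by
      linear_combination (norm := (rw [hδ']; ring))
        (3 * e' - 1 - (1 : A') ⊗ₜ[A] e) * hidem.eq + (1 + e' - 3 * ((1 : A') ⊗ₜ[A] e)) * he'.eq
    have hu2 : IsUnit (1 - f • W * (f • W)) := by
      by_contra hne
      obtain ⟨m, hm, hmem⟩ := exists_max_ideal_of_mem_nonunits hne
      haveI := hm
      have hfm : algebraMap A' (A' ⊗[A] B) (algebraMap A A' f) ∈ m :=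
        hjac _ (Ideal.isMaximal_comap_of_isIntegral_of_isMaximal (R := A') m)
      have h2 : f • W * (f • W) ∈ m := Ideal.mul_mem_left _ _ (by
        rw [← smul_one_mul f W, ← Algebra.algebraMap_eq_smul_one,
          IsScalarTower.algebraMap_apply A A' (A' ⊗[A] B)]
        exact Ideal.mul_mem_right _ _ hfm)
      exact hm.ne_top ((Ideal.eq_top_iff_one _).2 (by simpa using m.add_mem hmem h2))
    have h4 : IsUnit (1 - δ * δ) := by
      have := hu2.map ι
      rwa [map_sub, map_one, map_mul, ← hδ] at this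
    exact sub_eq_zero.1 (h4.mul_left_eq_zero.1 h3)

end Groth.Agent.H11LefFEt.Idem
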