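import Groth.Agent.H11LefFEt.Dual
import Groth.Agent.H11Strict.StrictCurve
import Groth.Agent.H24FMod.Affine
import Groth.Agent.S1575

/-!
# Completeness of functions passes to opens around the closed subscheme
-/

set_option autoImplicit false
set_option linter.style.haveILetI false
set_option backward.isDefEq.respectTransparency false

universe u

open CategoryTheory CategoryTheory.Limits AlgebraicGeometry Opposite TopologicalSpace

namespace Groth.Agent.H11LefFEt.Transfer

variable {X : Scheme.{u}} (J : X.IdealSheafData) (U : X.Opens)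

theorem comap_pow_ι (k : ℕ) : (J ^ k).comap U.ι = J.comap U.ι ^ k := H11Strict.comap_pow J U.ι k

/-- The levels over the open are the levels. -/
theorem exists_levelIso (hU : (J.support : Set X) ⊆ (U : Set X)) (n : ℕ) :
    ∃ c : (J.comap U.ι ^ (n + 1)).subscheme ⟶ (J ^ (n + 1)).subscheme, IsIso c ∧
      c ≫ (J ^ (n + 1)).subschemeι = (J.comap U.ι ^ (n + 1)).subschemeι ≫ U.ι := by
  rw [← comap_pow_ι]
  let K := J ^ (n + 1)
  refine ⟨(K.comapIso U.ι).hom ≫ pullback.snd _ _, ?_, by
    rw [Category.assoc, ← pullback.condition, ← Category.assoc, Scheme.IdealSheafData.comapIso_hom_fst]⟩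
  haveI : Surjective (pullback.snd U.ι K.subschemeι) := ⟨fun z => by
    have hz : K.subschemeι z ∈ Set.range U.ι := by
      rw [Scheme.Opens.range_ι]
      refine hU ?_
      have h1 : Set.range K.subschemeι = (J.support : Set X) := H05EGA4.LefConn.range_pow J n
      exact h1.le ⟨z, rfl⟩
    obtain ⟨u, hu⟩ := hz
    obtain ⟨y, -, hy⟩ := Scheme.Pullback.exists_preimage_pullback (f := U.ι) (g := K.subschemeι) u z hu
    exact ⟨y, hy⟩⟩
  haveI : IsIso (pullback.snd U.ι K.subschemeι) :=
    (isIso_iff_isOpenImmersion_and_surjective _).2 ⟨inferInstance, inferInstance⟩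
  infer_instance

theorem level_square {W : Scheme.{u}} {ι' : W ⟶ X} {I K : X.IdealSheafData} {I' K' : W.IdealSheafData} (h : I ≤ K)
    (h' : I' ≤ K') {c : I'.subscheme ⟶ I.subscheme} {d : K'.subscheme ⟶ K.subscheme}
    (hc : c ≫ I.subschemeι = I'.subschemeι ≫ ι') (hd : d ≫ K.subschemeι = K'.subschemeι ≫ ι') :
    d ≫ Scheme.IdealSheafData.inclusion h = Scheme.IdealSheafData.inclusion h' ≫ c := by
  rw [← cancel_mono I.subschemeι, Category.assoc, Category.assoc, Scheme.IdealSheafData.inclusion_subschemeι, hd, hc,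
    Scheme.IdealSheafData.inclusion_subschemeι_assoc]

theorem homToFormal_restrict (hU : (J.support : Set X) ⊆ (U : Set X))
    (hres : Function.Bijective U.ι.appTop) (h : Lef.HomToFormalBijective J (Coh.structureModule X)) :
    Lef.HomToFormalBijective (J.comap U.ι) (Coh.structureModule (U : Scheme.{u})) := by
  choose c hc hcι using exists_levelIso J U hU
  let cs : ∀ n, Γ((J ^ (n + 1)).subscheme, ⊤) → Γ((J.comap U.ι ^ (n + 1)).subscheme, ⊤) := fun n => (c n).appTop
  have hcs : ∀ n, Function.Bijective (cs n) := fun n => by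
    haveI := hc n
    exact ConcreteCategory.bijective_of_isIso (c n).appTop
  have hval : ∀ n (s : Γ(X, ⊤)), cs n ((J ^ (n + 1)).subschemeι.appTop s) =
      (J.comap U.ι ^ (n + 1)).subschemeι.appTop (U.ι.appTop s) := fun n s =>
    congr($(congrArg Scheme.Hom.appTop (hcι n)) s)
  refine ⟨fun φ ψ hφψ => H05EGA4.LefConn.unit_hom_ext ?_, fun y hy => ?_⟩
  · obtain ⟨a, ha⟩ := hres.2 (φ.app ⊤ (1 : Γ((U : Scheme.{u}), ⊤)))
    obtain ⟨b, hb⟩ := hres.2 (ψ.app ⊤ (1 : Γ((U : Scheme.{u}), ⊤)))
    have key : secHom' (Coh.structureModule X) a = secHom' (Coh.structureModule X) b := h.1 _ _ fun n =>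
      H05EGA4.LefConn.unit_hom_ext (by
        refine (congrArg ((ClSub.toSubscheme (J ^ (n + 1))).app ⊤) (secHom'_one (Coh.structureModule X) a)).trans
          (Eq.trans ((hcs n).1 ?_) (congrArg ((ClSub.toSubscheme (J ^ (n + 1))).app ⊤)
            (secHom'_one (Coh.structureModule X) b)).symm)
        refine (hval n a).trans (Eq.trans ?_ (hval n b).symm)
        rw [ha, hb]
        exact hom_app_eq (hφψ n) ⊤ (1 : Γ((U : Scheme.{u}), ⊤)))
    have hab : a = b := (secHom'_one (Coh.structureModule X) a).symm.trans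
      ((hom_app_eq key ⊤ (1 : Γ(X, ⊤))).trans (secHom'_one (Coh.structureModule X) b))
    exact ha.symm.trans ((congrArg _ hab).trans hb)
  · choose e he using fun n => (hcs n).2 ((y n).app ⊤ (1 : Γ((U : Scheme.{u}), ⊤)))
    have hcomp : ∀ n, (Scheme.IdealSheafData.inclusion (Lef.pow_succ_le J n)).appTop (e (n + 1)) = e n := fun n => by
      refine (hcs n).1 ?_
      have hsq := congr($(congrArg Scheme.Hom.appTop (level_square (Lef.pow_succ_le J n)
        (Lef.pow_succ_le (J.comap U.ι) n) (hcι (n + 1)) (hcι n))) (e (n + 1)))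
      refine Eq.trans ?_ (he n).symm
      refine hsq.trans ?_
      show (Scheme.IdealSheafData.inclusion (Lef.pow_succ_le (J.comap U.ι) n)).appTop (cs (n + 1) (e (n + 1))) = _
      rw [he]
      exact (H05EGA4.LefConn.quotMap_app _ _).symm.trans (hom_app_eq (hy n) ⊤ (1 : Γ((U : Scheme.{u}), ⊤)))
    obtain ⟨φ, hφ⟩ := h.2 (fun n => H05EGA4.LefConn.secHom (J ^ (n + 1)) (e n)) fun n =>
      H05EGA4.LefConn.unit_hom_ext (by
        refine Eq.trans ?_ (H05EGA4.LefConn.secHom_one _ _).symm
        show (Lef.quotMap (Lef.pow_succ_le J n)).app ⊤ ((H05EGA4.LefConn.secHom (J ^ (n + 1 + 1)) (e (n + 1))).app ⊤ (1 : Γ(X, ⊤))) = _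
        rw [H05EGA4.LefConn.secHom_one, H05EGA4.LefConn.quotMap_app]
        exact hcomp n)
    refine ⟨secHom' (Coh.structureModule (U : Scheme.{u})) (U.ι.appTop (φ.app ⊤ (1 : Γ(X, ⊤)))), fun n =>
      H05EGA4.LefConn.unit_hom_ext ?_⟩
    refine (congrArg ((ClSub.toSubscheme (J.comap U.ι ^ (n + 1))).app ⊤) (secHom'_one _ _)).trans ?_
    refine (hval n _).symm.trans (Eq.trans (congrArg (cs n) ?_) (he n))
    exact (hom_app_eq (hφ n) ⊤ (1 : Γ(X, ⊤))).trans (H05EGA4.LefConn.secHom_one _ _)

/-- Functions extend across points of depth two. -/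
theorem bijective_appTop [IsLocallyNoetherian X]
    (hd : ∀ x : X, x ∉ U → 2 ≤ LocCoh.depth (X.presheaf.stalk x) ((Coh.structureModule X).presheaf.stalk x)) :
    Function.Bijective U.ι.appTop := by
  have h1 := Groth.Agent.S1575.result X (Coh.structureModule X) (H10Coh.isCoh_structureModule' X) U hd ⊤
  have h2 := H24FMod.bijective_res_ring (X := X) (A := U.ι ''ᵁ (⊤ : (U : Scheme.{u}).Opens)) (B := ⊤ ⊓ U)
    (by simp) (by simp)
  have h3 := h2.comp h1
  refine ⟨fun s t hst => h3.1 ?_, fun s => ?_⟩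
  · refine Eq.trans ?_ (Eq.trans hst ?_)
    · exact (congr($(X.presheaf.map_comp _ _) s)).symm
    · exact congr($(X.presheaf.map_comp _ _) t)
  · obtain ⟨t, ht⟩ := h3.2 s
    exact ⟨t, (congr($(X.presheaf.map_comp _ _) t)).trans ht⟩

end Groth.Agent.H11LefFEt.Transfer
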