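import Groth.Agent.H11LefFEt.Punctured
import Groth.Agent.H11LefFEt.Transfer
import Groth.Agent.H22Alg.ESZCM
import Groth.Agent.H4DualSch.Basic
import Groth.Agent.H05EGA4.SerreCond
import Groth.Agent.H4LC.LC
import Groth.Agent.S2930

/-!
# Lef for the punctured spectrum of a complete local ring
-/

set_option autoImplicit false
set_option linter.style.haveILetI false
set_option backward.isDefEq.respectTransparency false

universe u

open CategoryTheory CategoryTheory.Limits AlgebraicGeometry Opposite TopologicalSpace IsLocalRing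

namespace Groth.Agent.H11LefFEt.LefPunct

variable {A : Type u} [CommRing A] [IsNoetherianRing A] [IsLocalRing A]

theorem dim_eq_one_of_covBy {p : PrimeSpectrum A} (h : p ⋖ closedPoint A) : ringKrullDim (A ⧸ p.asIdeal) = 1 := by
  refine le_antisymm ?_ ?_
  · rw [ringKrullDim_quotient, Order.krullDim_le_one_iff]
    intro z
    rcases h.eq_or_eq (show p ≤ z.1 from z.2) (IsLocalRing.le_maximalIdeal z.1.2.ne_top) with h1 | h1
    · exact Or.inl fun w hw => (show z.1 ≤ w.1 from h1.le.trans w.2)
    · exact Or.inr fun w hw => (show w.1 ≤ z.1 from h1 ▸ IsLocalRing.le_maximalIdeal w.1.2.ne_top)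
  · have : Nontrivial (A ⧸ p.asIdeal) := Ideal.Quotient.nontrivial_iff.2 p.2.ne_top
    by_contra hc
    have h0 : ringKrullDim (A ⧸ p.asIdeal) ≤ 0 := by
      obtain ⟨d, hd⟩ := H05EGA4.exists_nat_dim_quotient_eq p.asIdeal
      rw [hd] at hc ⊢
      have hd0 : d = 0 := by
        by_contra hd0
        exact hc (by exact_mod_cast Nat.pos_of_ne_zero hd0)
      subst hd0; simp
    haveI : Ring.KrullDimLE 0 (A ⧸ p.asIdeal) := Ring.krullDimLE_iff.2 (by simpa using h0)
    have hpm : p.asIdeal.IsMaximal := Ideal.Quotient.maximal_of_isField _ Ring.KrullDimLE.isField_of_isDomain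
    exact h.ne (PrimeSpectrum.ext (IsLocalRing.eq_maximalIdeal hpm))

theorem exists_pow_kill (t : A) (ht : t ∈ maximalIdeal A) (i : ℕ) [Module.Finite A (LocCoh.H (maximalIdeal A) i A)] :
    ∃ n : ℕ, ∀ x : LocCoh.H (maximalIdeal A) i A, t ^ n • x = 0 := by
  obtain ⟨s, hs⟩ := Module.finite_def.1 (inferInstance : Module.Finite A (LocCoh.H (maximalIdeal A) i A))
  choose k hk using fun x : LocCoh.H (maximalIdeal A) i A => H4LC.isPowerTorsion_H (maximalIdeal A) i A x
  refine ⟨s.sup k, fun x => ?_⟩
  induction (show x ∈ Submodule.span A (s : Set (LocCoh.H (maximalIdeal A) i A)) from hs ▸ trivial) using Submodule.span_induction with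
  | mem y hy =>
    refine hk y _ ?_
    exact Ideal.pow_le_pow_right (Finset.le_sup hy) (Ideal.pow_mem_pow ht _)
  | zero => exact smul_zero _
  | add a b _ _ ha hb => rw [smul_add, ha, hb, add_zero]
  | smul c y _ hy => rw [smul_comm, hy, smul_zero]

theorem lefCond (R : Type u) [CommRing R] [IsRegularLocalRing R] (π : R →+* A) (hπ : Function.Surjective π) (t : A)
    (ht : t ∈ maximalIdeal A) [IsAdicComplete (Ideal.span {t}) A]
    (hdepth : ∀ p : PrimeSpectrum A, ringKrullDim (A ⧸ p.asIdeal) = 1 →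
      (2 : ℕ∞) ≤ LocCoh.depth (Localization.AtPrime p.asIdeal) (Localization.AtPrime p.asIdeal)) :
    Lef.LefCond (↑(FEt.puncturedSpec A) : Scheme.{u})
      ((Spec.map (CommRingCat.ofHom (Ideal.Quotient.mk (Ideal.span {t})))).ker.comap (FEt.puncturedSpec A).ι) := by
  haveI : IsRegularRing R := H05EGA4.isRegularRing_of_isRegularLocalRing R
  have hfin := (S2930.result R A π hπ (maximalIdeal A) A 2).2 fun p q hp hq hpq => by
    have hqm : q = closedPoint A := PrimeSpectrum.ext ((maximalIdeal.isMaximal A).eq_of_le q.2.ne_top hq).symm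
    subst hqm
    obtain ⟨e⟩ := H4Depth.exists_localizedModule_self_equiv p.asIdeal
    rw [H4Depth.depth_congr e]
    exact hdepth p (dim_eq_one_of_covBy hpq)
  haveI := hfin 1 (by norm_num)
  haveI := hfin 2 le_rfl
  let P : (Spec (CommRingCat.of A)).Opens := FEt.puncturedSpec A
  have hP : P = LocCoh.puncturedOpen A (maximalIdeal A) := by
    refine Opens.ext (Set.ext fun p => ?_)
    show p ≠ closedPoint A ↔ ¬ (maximalIdeal A : Set A) ⊆ p.asIdeal
    exact not_congr ⟨fun h => (congrArg PrimeSpectrum.asIdeal h).ge,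
      fun h => PrimeSpectrum.ext ((maximalIdeal.isMaximal A).eq_of_le p.2.ne_top h).symm⟩
  let J := (FSch.idealSpec A (Ideal.span {t})).comap P.ι
  haveI : IsNoetherianRing ↑(CommRingCat.of A) := ‹IsNoetherianRing A›
  haveI : IsLocallyNoetherian (P : Scheme.{u}) := isLocallyNoetherian_of_isOpenImmersion P.ι
  haveI : CompactSpace (P : Scheme.{u}) := isCompact_iff_compactSpace.1 (TopologicalSpace.NoetherianSpace.isCompact _)
  haveI : AlgebraicGeometry.IsNoetherian (P : Scheme.{u}) := ⟨⟩
  haveI : (P : Scheme.{u}).IsQuasiAffine := Scheme.IsQuasiAffine.of_isImmersion P.ι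
  have hO : Lef.HomToFormalBijective J (Coh.structureModule (P : Scheme.{u})) :=
    Punct.homToFormal A (maximalIdeal A) t (exists_pow_kill t ht 1) (exists_pow_kill t ht 2) P hP _
      (H05EGA4.LefConn.isFinLocFree_unit _)
  intro U hU D hD
  haveI : IsLocallyNoetherian (U : Scheme.{u}) := isLocallyNoetherian_of_isOpenImmersion U.ι
  haveI : CompactSpace (U : Scheme.{u}) := isCompact_iff_compactSpace.1 (TopologicalSpace.NoetherianSpace.isCompact _)
  haveI : AlgebraicGeometry.IsNoetherian (U : Scheme.{u}) := ⟨⟩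
  haveI : (U : Scheme.{u}).IsQuasiAffine := Scheme.IsQuasiAffine.of_isImmersion (U.ι ≫ P.ι)
  refine homToFormal_of_quasiAffine _ (Transfer.homToFormal_restrict J U hU (Transfer.bijective_appTop U fun x hx => ?_) hO) hD
  rw [H22Alg.ESZCM.depth_structure]
  let p : PrimeSpectrum A := P.ι x
  obtain ⟨e⟩ := H4DualSch.exists_stalk_ringEquiv (X := Spec (CommRingCat.of A)) (𝟙 _) p
  let e' := e.trans (asIso (P.ι.stalkMap x)).commRingCatIsoToRingEquiv
  rw [← H05EGA4.depth_eq_of_ringEquiv e']
  refine hdepth p ?_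
  have hxJ : x ∉ (J.support : Set (P : Scheme.{u})) := fun h => hx (hU h)
  -- the closure of `p` misses `V(t)` outside the closed point
  have htp : t ∉ p.asIdeal := fun h => hxJ (by
    show x ∈ (((FSch.idealSpec A (Ideal.span {t})).comap P.ι).support : Set _)
    rw [Scheme.IdealSheafData.support_comap]
    show p ∈ ((Spec.map (CommRingCat.ofHom (Ideal.Quotient.mk (Ideal.span {t})))).ker.support : Set (Spec (CommRingCat.of A)))
    rw [Scheme.Hom.support_ker]
    refine subset_closure ((range_comap_of_surjective (f := Ideal.Quotient.mk (Ideal.span {t})) _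
      Ideal.Quotient.mk_surjective).ge ?_)
    rw [Ideal.mk_ker, PrimeSpectrum.zeroLocus_span, PrimeSpectrum.mem_zeroLocus, Set.singleton_subset_iff]
    exact h)
  have hV : ∀ z : PrimeSpectrum A, p ≤ z → t ∈ z.asIdeal → z = closedPoint A := fun z hpz htz => by
    by_contra hzm
    let z' : (P : Scheme.{u}) := ⟨z, hzm⟩
    have hz'U : z' ∈ U := hU (by
      show z' ∈ (((FSch.idealSpec A (Ideal.span {t})).comap P.ι).support : Set _)
      rw [Scheme.IdealSheafData.support_comap]
      show z ∈ ((Spec.map (CommRingCat.ofHom (Ideal.Quotient.mk (Ideal.span {t})))).ker.support : Set (Spec (CommRingCat.of A)))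
      rw [Scheme.Hom.support_ker]
      refine subset_closure ((range_comap_of_surjective (f := Ideal.Quotient.mk (Ideal.span {t})) _
        Ideal.Quotient.mk_surjective).ge ?_)
      rw [Ideal.mk_ker, PrimeSpectrum.zeroLocus_span, PrimeSpectrum.mem_zeroLocus, Set.singleton_subset_iff]
      exact htz)
    have hsp : x ⤳ z' := (Topology.IsInducing.subtypeVal.specializes_iff).1
      ((PrimeSpectrum.le_iff_specializes p z).1 hpz)
    exact hx (hsp.mem_open U.2 hz'U)
  let B := A ⧸ p.asIdeal
  let tb : B := Ideal.Quotient.mk p.asIdeal t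
  haveI : IsLocalRing B := .of_surjective' _ Ideal.Quotient.mk_surjective
  haveI : Nontrivial B := Ideal.Quotient.nontrivial_iff.2 p.2.ne_top
  haveI : Ring.KrullDimLE 0 (B ⧸ Ideal.span {tb}) := Ring.krullDimLE_zero_iff.mpr fun Q hQ => by
    let φ : A →+* B ⧸ Ideal.span {tb} := (Ideal.Quotient.mk _).comp (Ideal.Quotient.mk p.asIdeal)
    have hφ : Function.Surjective φ := Ideal.Quotient.mk_surjective.comp Ideal.Quotient.mk_surjective
    have hz := hV ⟨Q.comap φ, inferInstance⟩ (fun a ha => by
      show φ a ∈ Q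
      rw [show φ a = Ideal.Quotient.mk (Ideal.span {tb}) (Ideal.Quotient.mk p.asIdeal a) from rfl,
        Ideal.Quotient.eq_zero_iff_mem.2 ha, map_zero]
      exact zero_mem _) (by
      show φ t ∈ Q
      rw [show φ t = 0 from Ideal.Quotient.eq_zero_iff_mem.2 (Ideal.mem_span_singleton_self tb)]
      exact zero_mem _)
    have hQm : Q.comap φ = maximalIdeal A := congrArg PrimeSpectrum.asIdeal hz
    rw [← Ideal.map_comap_of_surjective φ hφ Q, hQm]
    refine Ideal.IsMaximal.map_of_surjective_of_ker_le hφ ?_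
    rw [← hQm]
    exact Ideal.comap_mono bot_le
  have hdim : ringKrullDim (B ⧸ Ideal.span {tb}) ≤ 0 := (Ring.krullDimLE_iff.1 ‹_›).trans (by simp)
  have hle : ringKrullDim B ≤ ringKrullDim (B ⧸ Ideal.span {tb}) + 1 := by
    have h := ringKrullDim_le_ringKrullDim_quotient_add_encard ({tb} : Set B) (by
      rw [Set.singleton_subset_iff]
      refine Ring.jacobson_eq_sInf_isMaximal B ▸ Ideal.mem_sInf.2 fun {m} hm => ?_
      rw [IsLocalRing.eq_maximalIdeal hm]
      haveI : IsLocalHom (Ideal.Quotient.mk p.asIdeal) := .of_surjective _ Ideal.Quotient.mk_surjective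
      exact map_nonunit (Ideal.Quotient.mk p.asIdeal) t ht)
    simpa using h
  have h1 : ringKrullDim B ≤ 1 := hle.trans (by simpa using add_le_add_left hdim (1 : WithBot ℕ∞))
  refine dim_eq_one_of_covBy ⟨lt_of_le_of_ne (IsLocalRing.le_maximalIdeal p.2.ne_top) x.2, fun z hpz hzm => ?_⟩
  rw [ringKrullDim_quotient, Order.krullDim_le_one_iff] at h1
  rcases h1 ⟨z, hpz.le⟩ with h | h
  · exact absurd (h (b := ⟨p, (le_rfl : p.asIdeal ≤ p.asIdeal)⟩) hpz.le) (not_le_of_gt hpz)
  · exact absurd (h (b := ⟨closedPoint A, IsLocalRing.le_maximalIdeal p.2.ne_top⟩) hzm.le) (not_le_of_gt hzm)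

end Groth.Agent.H11LefFEt.LefPunct
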