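import Groth.Agent.H11LefFEt.Square
import Groth.Agent.H05EGA4.LefConn
import Groth.Agent.H24FSch.ComplHom
import Groth.Agent.H29Disc.Generic
import Groth.Agent.H18Et.FEtRestrict

/-!
# Sections of a finite flat cover and of its completion
-/

set_option autoImplicit false
set_option linter.style.haveILetI false
set_option backward.isDefEq.respectTransparency false

universe u

open CategoryTheory CategoryTheory.Limits AlgebraicGeometry Opposite TopologicalSpace
open Groth.Agent.H24FSch (pushTrans pushTrans_compat pushTrans_natural unit_pushTrans stdTrans)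

namespace Groth.Agent.H11LefFEt

variable {X P : Scheme.{u}} (J : X.IdealSheafData) (π : P ⟶ X)

/-- The levels of the completion of the cover. -/
noncomputable abbrev lev (n : ℕ) : Scheme.{u} := pullback π (FSch.completionToX X J n)

noncomputable abbrev levι (n : ℕ) : lev J π n ⟶ P := pullback.fst _ _

noncomputable abbrev levπ (n : ℕ) : lev J π n ⟶ (FSch.completionAlong X J).X n := pullback.snd _ _

theorem trans_comp (n : ℕ) :
    (FSch.completionAlong X J).ι n ≫ FSch.completionToX X J (n + 1) = FSch.completionToX X J n :=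
  Scheme.IdealSheafData.inclusion_subschemeι _

/-- The transition maps of the levels. -/
noncomputable def levTrans (n : ℕ) : lev J π n ⟶ lev J π (n + 1) :=
  pullback.lift (levι J π n) (levπ J π n ≫ (FSch.completionAlong X J).ι n)
    (by rw [Category.assoc, trans_comp]; exact pullback.condition)

@[reassoc] theorem levTrans_ι (n : ℕ) : levTrans J π n ≫ levι J π (n + 1) = levι J π n :=
  pullback.lift_fst _ _ _

theorem levTrans_π (n : ℕ) : levTrans J π n ≫ levπ J π (n + 1) = levπ J π n ≫ (FSch.completionAlong X J).ι n :=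
  pullback.lift_snd _ _ _

theorem isPullback_levTrans (n : ℕ) :
    IsPullback (levTrans J π n) (levπ J π n) (levπ J π (n + 1)) ((FSch.completionAlong X J).ι n) := by
  refine (IsPullback.of_right (h₁₂ := levι J π (n + 1)) (v₁₃ := π) (h₂₂ := FSch.completionToX X J (n + 1)) ?_
    (levTrans_π J π n) (IsPullback.of_hasPullback π _))
  rw [levTrans_ι, trans_comp]
  exact IsPullback.of_hasPullback π _

/-- Bijectivity of the sections of the cover to those of its completion. -/
def FormalSections : Prop :=
  (∀ s t : Γ(P, ⊤), (∀ n, (levι J π n).appTop s = (levι J π n).appTop t) → s = t) ∧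
  ∀ e : ∀ n, Γ(lev J π n, ⊤), (∀ n, (levTrans J π n).appTop (e (n + 1)) = e n) →
    ∃ s : Γ(P, ⊤), ∀ n, (levι J π n).appTop s = e n

/-- A global section as a morphism from the structure sheaf. -/
noncomputable def secHom' (M : X.Modules) (s : Γ(M, ⊤)) : Coh.structureModule X ⟶ M :=
  (SheafOfModules.unitHomEquiv (M : SheafOfModules X.ringCatSheaf)).symm
    (PresheafOfModules.sectionsMk (fun U => M.presheaf.map (homOfLE le_top).op s)
      (fun U V i => by
        show M.presheaf.map i (M.presheaf.map _ s) = _
        rw [← ConcreteCategory.comp_apply, ← Functor.map_comp]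
        rfl))

theorem secHom'_one (M : X.Modules) (s : Γ(M, ⊤)) : (secHom' M s).app ⊤ (1 : Γ(X, ⊤)) = s := by
  have h := congrArg (fun t => t.val (op (⊤ : X.Opens)))
    ((SheafOfModules.unitHomEquiv (M : SheafOfModules X.ringCatSheaf)).apply_symm_apply
      (PresheafOfModules.sectionsMk (fun U => M.presheaf.map (homOfLE le_top).op s)
        (fun U V i => by
          show M.presheaf.map i (M.presheaf.map _ s) = _
          rw [← ConcreteCategory.comp_apply, ← Functor.map_comp]
          rfl)))
  refine h.trans ?_
  show M.presheaf.map (𝟙 (op (⊤ : X.Opens))) s = s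
  rw [CategoryTheory.Functor.map_id]
  rfl

theorem secHom'_comp {M N : X.Modules} (f : M ⟶ N) (s : Γ(M, ⊤)) (v : Γ(N, ⊤)) (h : f.app ⊤ s = v) :
    secHom' M s ≫ f = secHom' N v := by
  refine H05EGA4.LefConn.unit_hom_ext ?_
  refine (congrArg (f.app ⊤) (secHom'_one M s)).trans ?_
  exact h.trans (secHom'_one N v).symm

variable [IsAffineHom π]

theorem isAffineHom_trans (n : ℕ) : IsAffineHom ((FSch.completionAlong X J).ι n) :=
  haveI : IsAffineHom ((FSch.completionAlong X J).ι n ≫ FSch.completionToX X J (n + 1)) := by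
    rw [trans_comp]
    infer_instance
  MorphismProperty.of_postcomp (W := @IsAffineHom) (W' := @IsSeparated) _ (FSch.completionToX X J (n + 1))
    inferInstance inferInstance

/-- The comparison at a level. -/
noncomputable def Φ (n : ℕ) : (Scheme.Modules.pushforward (FSch.completionToX X J n)).obj
    ((Scheme.Modules.pullback (FSch.completionToX X J n)).obj (pO π)) ⟶
      (Scheme.Modules.pushforward (FSch.completionToX X J n)).obj (pO (levπ J π n)) :=
  (Scheme.Modules.pushforward (FSch.completionToX X J n)).map (bcHom pullback.condition)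

theorem bijective_Φ (n : ℕ) : Function.Bijective ((Φ J π n).app ⊤) := by
  haveI := isIso_bcHom (IsPullback.of_hasPullback π (FSch.completionToX X J n))
  haveI : IsIso (Φ J π n) := inferInstanceAs (IsIso ((Scheme.Modules.pushforward _).map (bcHom _)))
  exact H17.PullSect.bijective_app (asIso (Φ J π n)).hom ⊤

theorem unit_Φ (n : ℕ) (s : Γ(P, ⊤)) :
    (Φ J π n).app ⊤ (((Scheme.Modules.pullbackPushforwardAdjunction (FSch.completionToX X J n)).unit.app
      (pO π)).app ⊤ s) = (levι J π n).appTop s := by
  have hsq : levι J π n ≫ π = levπ J π n ≫ FSch.completionToX X J n := pullback.condition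
  have h1 := H24FSch.comp_eq_apply (unit_bcHom hsq) ⊤ s
  refine h1.trans ((bcPush_app hsq ⊤ s).trans ?_)
  rw [Scheme.Hom.appTop, Scheme.Hom.app_eq_appLE]
  rfl

/-- The transition on direct images of structure sheaves. -/
noncomputable def transO (n : ℕ) :
    (Scheme.Modules.pullback ((FSch.completionAlong X J).ι n)).obj (pO (levπ J π (n + 1))) ≅ pO (levπ J π n) :=
  haveI := isAffineHom_trans J n
  haveI : IsAffineHom (levπ J π (n + 1)) := MorphismProperty.pullback_snd _ _ inferInstance
  haveI := isIso_bcHom (isPullback_levTrans J π n)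
  asIso (bcHom (isPullback_levTrans J π n).w)

theorem transO_hom (n : ℕ) : (transO J π n).hom = bcHom (isPullback_levTrans J π n).w := rfl

theorem transO_app (n : ℕ) (e : Γ(lev J π (n + 1), ⊤)) :
    (pushTrans ((FSch.completionAlong X J).ι n) (FSch.completionToX X J (n + 1)) (FSch.completionToX X J n)
      (trans_comp J n) (transO J π n)).app ⊤ e = (levTrans J π n).appTop e := by
  refine (pushTrans_bcHom_app _ _ _ _ (isPullback_levTrans J π n).w _ (transO_hom J π n) ⊤ e).trans ?_
  rw [Scheme.Hom.appTop, Scheme.Hom.app_eq_appLE]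
  rfl

/-- The comparisons commute with the transitions. -/
theorem Φ_natural (n : ℕ) :
    Φ J π (n + 1) ≫ pushTrans ((FSch.completionAlong X J).ι n) (FSch.completionToX X J (n + 1))
        (FSch.completionToX X J n) (trans_comp J n) (transO J π n) =
      pushTrans ((FSch.completionAlong X J).ι n) (FSch.completionToX X J (n + 1))
        (FSch.completionToX X J n) (trans_comp J n)
        (stdTrans _ _ _ (trans_comp J n) (pO π)) ≫ Φ J π n :=
  map_bcHom_natural _ _ _ (trans_comp J n) (isPullback_levTrans J π n).w _ _ (levTrans_ι J π n) _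
    (transO_hom J π n)

/-- Morphisms of completions from compatible maps into direct images. -/
theorem exists_complHom (F G : X.Modules)
    (c : ∀ n, F ⟶ (Scheme.Modules.pushforward (FSch.completionToX X J n)).obj
      ((Scheme.Modules.pullback (FSch.completionToX X J n)).obj G))
    (hc : ∀ n, c (n + 1) ≫ pushTrans ((FSch.completionAlong X J).ι n) (FSch.completionToX X J (n + 1))
        (FSch.completionToX X J n) (trans_comp J n) (stdTrans _ _ _ (trans_comp J n) G) = c n) :
    ∃ a : FSch.complMod J F ⟶ FSch.complMod J G, ∀ n, H24FSch.complHomLevel J a n =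
      ((Scheme.Modules.pullbackPushforwardAdjunction (FSch.completionToX X J n)).homEquiv _ _).symm (c n) :=
  have key : ∀ n, (Scheme.Modules.pullback ((FSch.completionAlong X J).ι n)).map
      (((Scheme.Modules.pullbackPushforwardAdjunction (FSch.completionToX X J (n + 1))).homEquiv F
        ((Scheme.Modules.pullback (FSch.completionToX X J (n + 1))).obj G)).symm (c (n + 1))) ≫
      ((FSch.complTransIso J n).app G).hom = ((FSch.complTransIso J n).app F).hom ≫
      ((Scheme.Modules.pullbackPushforwardAdjunction (FSch.completionToX X J n)).homEquiv F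
        ((Scheme.Modules.pullback (FSch.completionToX X J n)).obj G)).symm (c n) := fun n => by
    have h1 := transpose_natural _ _ _ (trans_comp J n) G (c (n + 1)) (c n) (hc n)
    rw [H24FSch.complTransIso_app J G n (trans_comp J n), H24FSch.complTransIso_app J F n (trans_comp J n)]
    exact h1
  ⟨⟨fun n => ((Scheme.Modules.pullbackPushforwardAdjunction (FSch.completionToX X J n)).homEquiv _ _).symm (c n),
    key⟩, fun _ => rfl⟩

theorem trans_eq (n : ℕ) (e₀ : Γ(lev J π n, ⊤)) (e₁ : Γ(lev J π (n + 1), ⊤))
    (t₀ : Γ((Scheme.Modules.pushforward (FSch.completionToX X J n)).obj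
      ((Scheme.Modules.pullback (FSch.completionToX X J n)).obj (pO π)), ⊤))
    (t₁ : Γ((Scheme.Modules.pushforward (FSch.completionToX X J (n + 1))).obj
      ((Scheme.Modules.pullback (FSch.completionToX X J (n + 1))).obj (pO π)), ⊤))
    (he : (levTrans J π n).appTop e₁ = e₀) (h₀ : (Φ J π n).app ⊤ t₀ = e₀)
    (h₁ : (Φ J π (n + 1)).app ⊤ t₁ = e₁) :
    (pushTrans ((FSch.completionAlong X J).ι n) (FSch.completionToX X J (n + 1)) (FSch.completionToX X J n)
      (trans_comp J n) (stdTrans _ _ _ (trans_comp J n) (pO π))).app ⊤ t₁ = t₀ := by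
  refine (bijective_Φ J π n).1 (Eq.trans ?_ h₀.symm)
  refine Eq.trans (H24FSch.comp_comm_apply (Φ_natural J π n) ⊤ t₁).symm ?_
  refine Eq.trans (congrArg _ h₁) ?_
  exact (transO_app J π n e₁).trans he

theorem secHom'_compat (n : ℕ) (e₀ : Γ(lev J π n, ⊤)) (e₁ : Γ(lev J π (n + 1), ⊤))
    (t₀ : Γ((Scheme.Modules.pushforward (FSch.completionToX X J n)).obj
      ((Scheme.Modules.pullback (FSch.completionToX X J n)).obj (pO π)), ⊤))
    (t₁ : Γ((Scheme.Modules.pushforward (FSch.completionToX X J (n + 1))).obj
      ((Scheme.Modules.pullback (FSch.completionToX X J (n + 1))).obj (pO π)), ⊤))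
    (he : (levTrans J π n).appTop e₁ = e₀) (h₀ : (Φ J π n).app ⊤ t₀ = e₀)
    (h₁ : (Φ J π (n + 1)).app ⊤ t₁ = e₁) :
    secHom' _ t₁ ≫ pushTrans ((FSch.completionAlong X J).ι n) (FSch.completionToX X J (n + 1))
      (FSch.completionToX X J n) (trans_comp J n) (stdTrans _ _ _ (trans_comp J n) (pO π)) = secHom' _ t₀ := by
  exact secHom'_comp _ t₁ t₀ (trans_eq J π n e₀ e₁ t₀ t₁ he h₀ h₁)

/-- Completion full faithfulness on `Hom(O, π_* O)` gives bijectivity of sections. -/
theorem formalSections_of_complModMap
    (hc : Function.Bijective (fun φ : Coh.structureModule X ⟶ pO π => FSch.complModMap J φ)) :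
    FormalSections J π := by
  let adj := fun n => Scheme.Modules.pullbackPushforwardAdjunction (FSch.completionToX X J n)
  have hφ : ∀ (φ : Coh.structureModule X ⟶ pO π) (n : ℕ),
      (Φ J π n).app ⊤ (((adj n).homEquiv _ _ ((Scheme.Modules.pullback _).map φ)).app ⊤ (1 : Γ(X, ⊤))) =
        (levι J π n).appTop (φ.app ⊤ (1 : Γ(X, ⊤))) := fun φ n => by
    rw [Adjunction.homEquiv_unit]
    refine Eq.trans ?_ (unit_Φ J π n _)
    exact congrArg ((Φ J π n).app ⊤)
      congr($(congrArg (fun k => Scheme.Modules.Hom.app k ⊤) ((adj n).unit.naturality φ).symm) (1 : Γ(X, ⊤)))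
  refine ⟨fun s t h => ?_, fun e he => ?_⟩
  · have : secHom' (pO π) s = secHom' (pO π) t := hc.1 (FSch.ModSys.Hom.ext (funext fun n => by
      show (Scheme.Modules.pullback _).map _ = (Scheme.Modules.pullback _).map _
      refine ((adj n).homEquiv _ _).injective (H05EGA4.LefConn.unit_hom_ext ((bijective_Φ J π n).1 ?_))
      rw [hφ, hφ, secHom'_one, secHom'_one]
      exact h n))
    rw [← secHom'_one (pO π) s, this, secHom'_one]
  · choose t ht using fun n => (bijective_Φ J π n).2 (e n)
    have hc' := fun n => secHom'_compat J π n (e n) (e (n + 1)) (t n) (t (n + 1)) (he n) (ht n) (ht (n + 1))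
    obtain ⟨a, ha⟩ := exists_complHom J _ _ (fun n => secHom' _ (t n)) hc'
    obtain ⟨φ, hφa⟩ := hc.2 a
    refine ⟨φ.app ⊤ (1 : Γ(X, ⊤)), fun n => ?_⟩
    rw [← hφ φ n]
    have h1 : (Scheme.Modules.pullback (FSch.completionToX X J n)).map φ =
        ((adj n).homEquiv _ _).symm (secHom' _ (t n)) :=
      (congrArg (fun k => H24FSch.complHomLevel J k n) hφa).trans (ha n)
    rw [h1, Equiv.apply_symm_apply, secHom'_one, ht]

end Groth.Agent.H11LefFEt
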