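import Groth.Agent.H11LefFEt.QuasiAffine
import Groth.Agent.H24Formal2.PunctBridge
import Groth.Agent.H17.CechShRes.Main
import Groth.Agent.H24FSch.Basic

/-!
# Truncations by powers of a principal ideal and closed subscheme levels
-/

set_option autoImplicit false
set_option linter.style.haveILetI false
set_option backward.isDefEq.respectTransparency false

universe u

open CategoryTheory CategoryTheory.Limits AlgebraicGeometry Opposite TopologicalSpace

namespace Groth.Agent.H11LefFEt.Principal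

variable {A : Type u} [CommRing A] {X : Scheme.{u}} [X.Over (Spec (CommRingCat.of A))]
variable (f : A) (J : X.IdealSheafData)

theorem ideal_pow_eq (hJ : ∀ V : X.affineOpens, J.ideal V = Ideal.span {H24Formal.scalA A (V : X.Opens) f})
    (k : ℕ) (V : X.affineOpens) :
    (J ^ k).ideal V = Ideal.span {H24Formal.scalA A (V : X.Opens) (f ^ k)} := by
  rw [Scheme.IdealSheafData.ideal_pow, Pi.pow_apply, hJ, Ideal.span_singleton_pow, map_pow]

variable (hJ : ∀ V : X.affineOpens, J.ideal V = Ideal.span {H24Formal.scalA A (V : X.Opens) f})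

include hJ in
theorem smulMod_toSubscheme (k : ℕ) :
    Formal.smulMod A (Coh.structureModule X) (f ^ k) ≫ ClSub.toSubscheme (J ^ k) = 0 := by
  refine hom_ext_basis (fun U => IsAffineOpen U) (fun W x hx => ?_) fun U hU t => ?_
  · obtain ⟨U, hU, hxU, hUW⟩ := Opens.isBasis_iff_nbhd.1 X.isBasis_affineOpens hx
    exact ⟨U, hU, hxU, hUW⟩
  · have h1 : H24Formal.scalA A U (f ^ k) * (show Γ(X, U) from t) ∈
        RingHom.ker ((J ^ k).subschemeι.app U).hom := by
      rw [show RingHom.ker ((J ^ k).subschemeι.app U).hom = (J ^ k).ideal ⟨U, hU⟩ from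
        (J ^ k).ker_subschemeι_app ⟨U, hU⟩, ideal_pow_eq f J hJ]
      exact Ideal.mul_mem_right _ _ (Ideal.mem_span_singleton_self _)
    exact h1

include hJ in
theorem exact_toSubscheme (k : ℕ) :
    (ShortComplex.mk _ _ (smulMod_toSubscheme f J hJ k)).Exact := by
  refine H17.CechShRes.exact_of_local _ fun U b hb x hx => ?_
  obtain ⟨V, hV, hxV, hVU⟩ := Opens.isBasis_iff_nbhd.1 X.isBasis_affineOpens hx
  have h1 : (show Γ(X, V) from X.presheaf.map (homOfLE hVU).op b) ∈
      RingHom.ker ((J ^ k).subschemeι.app V).hom := by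
    have h2 := H11Tilde.app_map_apply (ClSub.toSubscheme (J ^ k)) hVU b
    rw [show (ClSub.toSubscheme (J ^ k)).app U b = 0 from hb, map_zero] at h2
    exact h2
  rw [show RingHom.ker ((J ^ k).subschemeι.app V).hom = (J ^ k).ideal ⟨V, hV⟩ from
    (J ^ k).ker_subschemeι_app ⟨V, hV⟩, ideal_pow_eq f J hJ, Ideal.mem_span_singleton'] at h1
  obtain ⟨c, hc⟩ := h1
  exact ⟨V, hVU, hxV, c, (mul_comm _ c).trans hc⟩

include hJ in
theorem exists_levelIso (k : ℕ) :
    ∃ ρ : Formal.modPow (Ideal.span {f}) k (Coh.structureModule X) ≅ ClSub.quotMod (J ^ k),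
      Formal.modPowπ (Ideal.span {f}) k (Coh.structureModule X) ≫ ρ.hom = ClSub.toSubscheme (J ^ k) := by
  haveI := H10Coh.epi_toSubscheme (J ^ k)
  let c := (exact_toSubscheme f J hJ k).gIsCokernel
  refine ⟨(H24Formal.isColimitModPow f k _).coconePointUniqueUpToIso c, ?_⟩
  exact (H24Formal.isColimitModPow f k _).comp_coconePointUniqueUpToIso_hom c WalkingParallelPair.one

include hJ in
/-- Completeness of functions in the `A`-adic formulation gives it along the closed subscheme. -/
theorem homToFormal_of_toHHlim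
    (h : Function.Bijective (Formal.toHHlim (Ideal.span {f}) (Coh.structureModule X) 0)) :
    Lef.HomToFormalBijective J (Coh.structureModule X) := by
  let I := Ideal.span {f}
  let O := Coh.structureModule X
  choose ρ hρ using exists_levelIso f J hJ
  have htr : ∀ n, Formal.modPowTrans I (n + 1) O ≫ (ρ (n + 1)).hom =
      (ρ (n + 1 + 1)).hom ≫ Lef.quotMap (Lef.pow_succ_le J n) := fun n => by
    rw [← cancel_epi (Formal.modPowπ I (n + 1 + 1) O), ← Category.assoc, Formal.modPowπ_trans,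
      hρ, ← Category.assoc, hρ]
    exact (toSubscheme_quotMap _).symm
  let H0 := H10Coh.HH0Equiv (X := X) O
  let E : ∀ n, Formal.HHmodPow I O 0 n → Γ(ClSub.quotMod (J ^ (n + 1)), ⊤) := fun n x =>
    (ρ (n + 1)).hom.app ⊤ (H10Coh.HH0Equiv _ x)
  have hE : ∀ n, Function.Bijective (E n) := fun n =>
    (H17.PullSect.bijective_app (ρ (n + 1)).hom ⊤).comp (H10Coh.HH0Equiv _).bijective
  have hproj : ∀ n x, E n (Formal.toHHmodPow I O 0 n x) = (ClSub.toSubscheme (J ^ (n + 1))).app ⊤ (H0 x) :=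
    fun n x => (congrArg ((ρ (n + 1)).hom.app ⊤) (H28NT.HH0Equiv_map _ x)).trans (hom_app_eq (hρ (n + 1)) ⊤ (H0 x))
  have htrans : ∀ n x, E n (Formal.HHmodPowTrans I O 0 n x) =
      (Lef.quotMap (Lef.pow_succ_le J n)).app ⊤ (E (n + 1) x) :=
    fun n x => (congrArg ((ρ (n + 1)).hom.app ⊤) (H28NT.HH0Equiv_map _ x)).trans (hom_app_eq (htr n) ⊤ _)
  refine ⟨fun φ ψ hφψ => H05EGA4.LefConn.unit_hom_ext ?_, fun y hy => ?_⟩
  · have h1 : H0.symm (φ.app ⊤ (1 : Γ(X, ⊤))) = H0.symm (ψ.app ⊤ (1 : Γ(X, ⊤))) :=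
      h.1 (Subtype.ext (funext fun n => (hE n).1 (by
        refine (hproj n _).trans (Eq.trans ?_ (hproj n _).symm)
        rw [H0.apply_symm_apply, H0.apply_symm_apply]
        exact hom_app_eq (hφψ n) ⊤ (1 : Γ(X, ⊤)))))
    exact H0.symm.injective h1
  · choose t ht using fun n => (hE n).2 ((y n).app ⊤ (1 : Γ(X, ⊤)))
    obtain ⟨x, hx⟩ := h.2 ⟨t, fun n => (hE n).1 ((htrans n _).trans (by
      rw [ht, ht]
      exact hom_app_eq (hy n) ⊤ (1 : Γ(X, ⊤))))⟩
    refine ⟨secHom' O (H0 x), fun n => H05EGA4.LefConn.unit_hom_ext ?_⟩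
    refine Eq.trans ?_ (ht n)
    refine Eq.trans (congrArg ((ClSub.toSubscheme (J ^ (n + 1))).app ⊤) (secHom'_one O (H0 x))) ?_
    refine (hproj n x).symm.trans (congrArg (E n) ?_)
    exact congrFun (congrArg Subtype.val hx) n

omit [X.Over (Spec (CommRingCat.of A))] in
/-- The ideal of `U ∩ V(f)`. -/
theorem ideal_punctured (U : (Spec (CommRingCat.of A)).Opens)
    (V : (U : Scheme.{u}).affineOpens) :
    ((FSch.idealSpec A (Ideal.span {f})).comap U.ι).ideal V =
      Ideal.span {H24Formal.scalA A (X := (U : Scheme.{u})) (V : (U : Scheme.{u}).Opens) f} := by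
  rw [_root_.H29Blow.ideal_comap (FSch.idealSpec A (Ideal.span {f})) U.ι ⟨⊤, isAffineOpen_top _⟩ V le_top,
    H24FSch.idealSpec_ideal_top, Ideal.map_map, Ideal.map_span, Set.image_singleton]
  rfl

end Groth.Agent.H11LefFEt.Principal
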