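import Groth.Agent.H11LefFEt.Principal
import Groth.Agent.H11LefFEt.HensDescent
import Groth.Agent.H11LefFEt.Completion
import Groth.Agent.H24Formal2.PunctFormal
import Groth.Agent.H24Formal2.QAffSections
import Groth.Agent.H05EGA4.Regular2

/-!
# The punctured spectrum of a henselian pair and the hypersurface
-/

set_option autoImplicit false
set_option linter.style.haveILetI false
set_option backward.isDefEq.respectTransparency false

universe u

open CategoryTheory CategoryTheory.Limits AlgebraicGeometry Opposite TopologicalSpace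

namespace Groth.Agent.H11LefFEt.Punct

/-- Completeness along `f` on an open `V(𝔞)ᶜ` when `f` kills a power of `H¹` and `H²`. -/
theorem homToFormal (A : Type u) [CommRing A] [IsNoetherianRing A] (𝔞 : Ideal A) (f : A)
    [IsAdicComplete (Ideal.span {f}) A]
    (h₁ : ∃ n : ℕ, ∀ x : LocCoh.H 𝔞 1 A, f ^ n • x = 0) (h₂ : ∃ n : ℕ, ∀ x : LocCoh.H 𝔞 2 A, f ^ n • x = 0)
    (V : (Spec (CommRingCat.of A)).Opens) (hV : V = LocCoh.puncturedOpen A 𝔞)
    (D : (V : Scheme.{u}).Modules) (hD : FlatMod.IsFinLocFree D) :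
    Lef.HomToFormalBijective ((FSch.idealSpec A (Ideal.span {f})).comap V.ι) D := by
  subst hV
  let U := LocCoh.puncturedOpen A 𝔞
  haveI : IsNoetherianRing ↑(CommRingCat.of A) := ‹IsNoetherianRing A›
  haveI : IsLocallyNoetherian (U : Scheme.{u}) := isLocallyNoetherian_of_isOpenImmersion U.ι
  haveI : CompactSpace (U : Scheme.{u}) := isCompact_iff_compactSpace.1 (TopologicalSpace.NoetherianSpace.isCompact _)
  haveI : AlgebraicGeometry.IsNoetherian (U : Scheme.{u}) := ⟨⟩
  haveI : (U : Scheme.{u}).IsQuasiAffine := Scheme.IsQuasiAffine.of_isImmersion U.ι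
  exact homToFormal_of_quasiAffine _ (Principal.homToFormal_of_toHHlim f _ (Principal.ideal_punctured f U)
    (H24Formal2.Bridge.bijective_toHHlim_structure A (Ideal.span {f}) U
      (H24Formal2.formalCohBijective_zero A 𝔞 f A h₁ h₂))) hD

/-- Restriction to the hypersurface is fully faithful. -/
theorem full_faithful (A : Type u) [CommRing A] [IsNoetherianRing A] [IsLocalRing A] (f : A)
    (hf : f ∈ IsLocalRing.maximalIdeal A) [HenselianRing A (Ideal.span {f})]
    (h₁ : ∃ n : ℕ, ∀ x : LocCoh.H (IsLocalRing.maximalIdeal A) 1 A, f ^ n • x = 0)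
    (h₂ : ∃ n : ℕ, ∀ x : LocCoh.H (IsLocalRing.maximalIdeal A) 2 A, f ^ n • x = 0) :
    (FEt.restrict (pullback.fst (FEt.puncturedSpec A).ι
      (Spec.map (CommRingCat.ofHom (Ideal.Quotient.mk (Ideal.span {f})))))).Full ∧
    (FEt.restrict (pullback.fst (FEt.puncturedSpec A).ι
      (Spec.map (CommRingCat.ofHom (Ideal.Quotient.mk (Ideal.span {f})))))).Faithful := by
  let A' := AdicCompletion (Ideal.span {f}) A
  haveI : IsNoetherianRing A' := H05EGA4.isNoetherianRing_adicCompletion A _
  obtain ⟨_, hm⟩ := Completion.isLocalRing hf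
  haveI := Completion.faithfullyFlat hf
  haveI := Completion.isAdicComplete_span f
  haveI : Module.Flat A A' := inferInstance
  haveI : IsNoetherianRing ↑(CommRingCat.of A') := ‹IsNoetherianRing A'›
  have hkill : ∀ i, (∃ n : ℕ, ∀ x : LocCoh.H (IsLocalRing.maximalIdeal A) i A, f ^ n • x = 0) →
      ∃ n : ℕ, ∀ x : LocCoh.H ((IsLocalRing.maximalIdeal A).map (algebraMap A A')) i A',
        algebraMap A A' f ^ n • x = 0 := fun i ⟨n, hn⟩ =>
    ⟨n, fun x => by rw [← map_pow]; exact Completion.H_killed A' _ i _ hn x⟩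
  have hU : PrimeSpectrum.basicOpen f ≤ FEt.puncturedSpec A := by
    intro p hp h
    rw [Set.mem_singleton_iff] at h
    exact hp (h ▸ hf)
  haveI : IsLocallyNoetherian
      ((Spec.map (CommRingCat.ofHom (algebraMap A A')) ⁻¹ᵁ FEt.puncturedSpec A : (Spec (CommRingCat.of A')).Opens) : Scheme.{u}) :=
    isLocallyNoetherian_of_isOpenImmersion (Scheme.Opens.ι _)
  refine Descent.full_faithful_of_completion (A' := A') (Completion.mem_of_isMaximal f) (Completion.exists_sub_mem f)
    (FEt.puncturedSpec A) hU fun D hD => homToFormal A' _ _ (hkill 1 h₁) (hkill 2 h₂) _ ?_ D hD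
  refine Opens.ext (Set.ext fun p => ?_)
  show Spec.map (CommRingCat.ofHom (algebraMap A A')) p ≠ IsLocalRing.closedPoint A ↔
    ¬ (((IsLocalRing.maximalIdeal A).map (algebraMap A A') : Ideal A') : Set A') ⊆ p.asIdeal
  rw [SetLike.coe_subset_coe, Ideal.map_le_iff_le_comap]
  refine not_congr ⟨fun h => ?_, fun h => PrimeSpectrum.ext ?_⟩
  · exact (congrArg PrimeSpectrum.asIdeal h).ge
  · exact ((IsLocalRing.maximalIdeal.isMaximal A).eq_of_le
      (Spec.map (CommRingCat.ofHom (algebraMap A A')) p).isPrime.ne_top h).symm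

end Groth.Agent.H11LefFEt.Punct
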