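import Groth.Agent.H11LefFEt.Dual
import Groth.Agent.H24Formal2.QAffSections

/-!
# On a quasi-affine scheme maps from finite locally free modules to `O` complete like functions
-/

set_option autoImplicit false
set_option linter.style.haveILetI false
set_option backward.isDefEq.respectTransparency false

universe u

open CategoryTheory CategoryTheory.Limits AlgebraicGeometry Opposite TopologicalSpace
open Groth.Agent Groth.Agent.H29Ref Groth.Agent.H10Coh.SheafHom
open Groth.Agent.H24Formal2 (QAff.sc QAff.app1)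

namespace Groth.Agent.H11LefFEt

variable {X : Scheme.{u}} [IsNoetherian X] [X.IsQuasiAffine] {D : X.Modules}

/-- Global sections span locally. -/
theorem exists_spanning_chart (hDq : Coh.IsQCoh D) {W : X.Opens} {x : X} (hx : x ∈ W) :
    ∃ U : X.Opens, x ∈ U ∧ U ≤ W ∧ ∀ t : Γ(D, U), ∃ (s : Γ(D, ⊤)) (r : Γ(X, U)),
      t = r • D.presheaf.map (homOfLE (le_top : U ≤ ⊤)).op s := by
  haveI : D.IsQuasicoherent := hDq
  haveI : QuasiSeparatedSpace X := inferInstance
  obtain ⟨g, -, hgW, hxg⟩ := H17.QAffGen.exists_basicOpen_finite (U := W) (E := {x}) (by simpa using hx)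
  refine ⟨X.basicOpen g, hxg x (Finset.mem_singleton_self x), hgW, fun t => ?_⟩
  obtain ⟨N, s, hs⟩ := H10Coh.exists_pow_smul_eq_res_of_isCompact D (W := ⊤) isCompact_univ g t
  have hu : IsUnit (X.presheaf.map (homOfLE (X.basicOpen_le g)).op (g ^ N)) := by
    rw [map_pow]; exact (X.toRingedSpace.isUnit_res_basicOpen g).pow N
  refine ⟨s, hu.unit⁻¹.1, ?_⟩
  show t = hu.unit⁻¹.1 • D.presheaf.map (homOfLE (X.basicOpen_le g)).op s
  rw [hs, smul_smul, IsUnit.val_inv_mul, one_smul]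

/-- Maps out of a quasi-coherent module are determined by global sections. -/
theorem hom_ext_global (hDq : Coh.IsQCoh D) {N : X.Modules} {α β : D ⟶ N}
    (h : ∀ s : Γ(D, ⊤), α.app ⊤ s = β.app ⊤ s) : α = β := by
  refine hom_ext_basis (fun U => ∀ t : Γ(D, U), ∃ (s : Γ(D, ⊤)) (r : Γ(X, U)),
    t = r • D.presheaf.map (homOfLE (le_top : U ≤ ⊤)).op s) (fun W x hx => ?_) fun U hU t => ?_
  · obtain ⟨U, hxU, hUW, hU⟩ := exists_spanning_chart hDq hx
    exact ⟨U, hU, hxU, hUW⟩
  · obtain ⟨s, r, rfl⟩ := hU t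
    rw [Scheme.Modules.Hom.app_smul, Scheme.Modules.Hom.app_smul, H11Tilde.app_map_apply,
      H11Tilde.app_map_apply, h]

theorem bidual_toLin (E : X.Modules) (σ : Γ(E, ⊤)) (ψ : E ⟶ Coh.structureModule X) :
    toLin ((RefHull.bidualMap E).app ⊤ σ) (RefHull.ofHom ψ ⊤) = ψ.app ⊤ σ := by
  rw [toLin_bidual, toLin_ofHom]

omit [AlgebraicGeometry.IsNoetherian X] [X.IsQuasiAffine] in
theorem fun_ext_of_formal (J : X.IdealSheafData) (hO : Lef.HomToFormalBijective J (Coh.structureModule X))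
    (r r' : Γ(X, ⊤)) (h : ∀ n : ℕ, (J ^ (n + 1)).subschemeι.app ⊤ r = (J ^ (n + 1)).subschemeι.app ⊤ r') :
    r = r' := by
  let f := fun n : ℕ => ClSub.toSubscheme (J ^ (n + 1))
  have hf : ∀ n, (f n).app ⊤ r = (f n).app ⊤ r' := h
  have key : secHom' (Coh.structureModule X) r = secHom' (Coh.structureModule X) r' := hO.1 _ _ fun n =>
    (secHom'_comp (f n) r _ (hf n)).trans (secHom'_comp (f n) r' _ rfl).symm
  exact (secHom'_one (Coh.structureModule X) r).symm.trans
    ((hom_app_eq key ⊤ (1 : Γ(X, ⊤))).trans (secHom'_one (Coh.structureModule X) r'))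

/-- On a quasi-affine scheme completeness of functions gives it for maps out of finite locally free modules. -/
theorem homToFormal_of_quasiAffine (J : X.IdealSheafData)
    (hO : Lef.HomToFormalBijective J (Coh.structureModule X)) (hD : FlatMod.IsFinLocFree D) :
    Lef.HomToFormalBijective J D := by
  have hDq := H8Props.FinLocFree.isQCoh_of_isFinLocFree D hD
  let E := RefHull.dual D
  have hE : FlatMod.IsFinLocFree E := isFinLocFree_homSh hD (H05EGA4.LefConn.isFinLocFree_unit X)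
  haveI : IsIso (RefHull.bidualMap D) := isReflexive_of_finLocFree hD
  -- functions are determined by reductions
  have hsep := fun_ext_of_formal J hO
  refine ⟨fun φ φ' h => hom_ext_global hDq fun s => hsep _ _ fun n => hom_app_eq (h n) ⊤ s, fun y hy => ?_⟩
  have hval : ∀ σ : Γ(D, ⊤), ∃ a : Γ(X, ⊤), ∀ n, (J ^ (n + 1)).subschemeι.app ⊤ a = (y n).app ⊤ σ := fun σ => by
    obtain ⟨φ, hφ⟩ := hO.2 (fun n => secHom' D σ ≫ y n) fun n => by
      rw [Category.assoc, hy n]
    refine ⟨φ.app ⊤ (1 : Γ(X, ⊤)), fun n => ?_⟩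
    refine (hom_app_eq (hφ n) ⊤ (1 : Γ(X, ⊤))).trans ?_
    exact congrArg ((y n).app ⊤) (secHom'_one D σ)
  choose a ha using hval
  let β : (E ⟶ Coh.structureModule X) → Γ(D, ⊤) := fun Φ =>
    ((asIso (RefHull.bidualMap D)).inv.app ⊤) (RefHull.ofHom Φ ⊤)
  have hβ : ∀ Φ, (RefHull.bidualMap D).app ⊤ (β Φ) = RefHull.ofHom Φ ⊤ := fun Φ =>
    hom_app_eq (asIso (RefHull.bidualMap D)).inv_hom_id ⊤ _
  have hβinj : Function.Injective ((RefHull.bidualMap D).app ⊤) :=
    (H17.PullSect.bijective_app (asIso (RefHull.bidualMap D)).hom ⊤).1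
  obtain ⟨s, hs⟩ := H24Formal2.QAff.exists_section hE (AddMonoidHom.mk' (fun Φ => a (β Φ)) fun Φ Ψ => by
      refine hsep _ _ fun n => ?_
      have hb : β (Φ + Ψ) = β Φ + β Ψ := hβinj (by
        rw [map_add, hβ, hβ, hβ]
        exact Subtype.ext (funext fun x => LinearMap.ext fun v => by
          obtain ⟨U, hU, m, rfl⟩ := TopCat.Presheaf.exists_germ_eq E.presheaf v
          show RefHull.stalkMapₗ (Φ + Ψ) x.1 _ = RefHull.stalkMapₗ Φ x.1 _ + RefHull.stalkMapₗ Ψ x.1 _
          rw [RefHull.stalkMapₗ_germ, RefHull.stalkMapₗ_germ, RefHull.stalkMapₗ_germ]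
          exact map_add ((Coh.structureModule X).presheaf.germ U x.1 hU).hom _ _))
      rw [map_add, ha, ha, ha, hb, map_add])
    fun Φ r => by
      refine hsep _ _ fun n => ?_
      have hb : β (Φ ≫ QAff.sc _ r) = r • β Φ := hβinj (by
        rw [Scheme.Modules.Hom.app_smul, hβ, hβ, H24Formal2.QAff.ofHom_comp_sc])
      show _ = (J ^ (n + 1)).subschemeι.app ⊤ (r * a (β Φ))
      rw [map_mul, ha]
      refine (ha _ n).trans ?_
      rw [hb, Scheme.Modules.Hom.app_smul]
      rfl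
  obtain ⟨φ, hφ⟩ := ofHom_surjective s
  refine ⟨φ, fun n => hom_ext_global hDq fun σ => ?_⟩
  obtain ⟨Φ, hΦ⟩ := ofHom_surjective ((RefHull.bidualMap D).app ⊤ σ)
  have hσ : β Φ = σ := hβinj ((hβ Φ).trans hΦ)
  have h1 : φ.app ⊤ σ = a σ := by
    have h2 := hs Φ
    rw [AddMonoidHom.mk'_apply, hσ] at h2
    rw [← h2, ← toLin_ofHom φ ⊤ σ, hφ, ← toLin_bidual D σ s, ← hΦ, toLin_ofHom]
    rfl
  exact (congrArg ((ClSub.toSubscheme (J ^ (n + 1))).app ⊤) h1).trans (ha σ n)

end Groth.Agent.H11LefFEt
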