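import Groth.Prelude.Def_Lef
import Groth.Agent.H11Tilde.TransposeCover
import Groth.Agent.H10Coh.BaseChange
import Groth.Agent.H26Sym.BC
import Groth.Agent.H24FSch.ComplHom

/-!
# Base change of the direct image of the structure sheaf along an affine morphism
-/

set_option autoImplicit false
set_option linter.style.haveILetI false
set_option backward.isDefEq.respectTransparency false

universe u

open CategoryTheory CategoryTheory.Limits AlgebraicGeometry Opposite TopologicalSpace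
open scoped TensorProduct

namespace Groth.Agent.H11LefFEt

variable {P' P Y X : Scheme.{u}} {h : P' ⟶ P} {π' : P' ⟶ Y} {π : P ⟶ X} {i : Y ⟶ X}

/-- `f_* O`. -/
noncomputable abbrev pO {A B : Scheme.{u}} (f : A ⟶ B) : B.Modules :=
  (Scheme.Modules.pushforward f).obj (Coh.structureModule A)

/-- The map `π_* O_P ⟶ i_* π'_* O_{P'}` of a commutative square. -/
noncomputable def bcPush (sq : h ≫ π = π' ≫ i) : pO π ⟶ (Scheme.Modules.pushforward i).obj (pO π') :=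
  (Scheme.Modules.pushforward π).map (ClSub.unitToPush h) ≫
    (Scheme.Modules.pushforwardComp h π).hom.app _ ≫
    (Scheme.Modules.pushforwardCongr sq).hom.app _ ≫
    (Scheme.Modules.pushforwardComp π' i).inv.app _

theorem preimage_le (sq : h ≫ π = π' ≫ i) (V : X.Opens) :
    π' ⁻¹ᵁ (i ⁻¹ᵁ V) ≤ h ⁻¹ᵁ (π ⁻¹ᵁ V) := by
  rw [← Scheme.Hom.comp_preimage, ← Scheme.Hom.comp_preimage, sq]

theorem bcPush_app (sq : h ≫ π = π' ≫ i) (V : X.Opens) (s : Γ(P, π ⁻¹ᵁ V)) :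
    (bcPush sq).app V s = h.appLE (π ⁻¹ᵁ V) (π' ⁻¹ᵁ (i ⁻¹ᵁ V)) (preimage_le sq V) s := by
  simp only [bcPush, Scheme.Modules.Hom.comp_app, Scheme.Modules.pushforwardCongr_hom_app_app]
  rfl

/-- The base change map. -/
noncomputable def bcHom (sq : h ≫ π = π' ≫ i) : (Scheme.Modules.pullback i).obj (pO π) ⟶ pO π' :=
  ((Scheme.Modules.pullbackPushforwardAdjunction i).homEquiv _ _).symm (bcPush sq)

theorem unit_bcHom (sq : h ≫ π = π' ≫ i) :
    (Scheme.Modules.pullbackPushforwardAdjunction i).unit.app (pO π) ≫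
      (Scheme.Modules.pushforward i).map (bcHom sq) = bcPush sq :=
  ((Scheme.Modules.pullbackPushforwardAdjunction i).homEquiv_unit _ _ _).symm.trans
    (Equiv.apply_symm_apply _ _)

theorem isQCoh_pO {A B : Scheme.{u}} (f : A ⟶ B) [IsAffineHom f] : Coh.IsQCoh (pO f) := by
  haveI : (Coh.structureModule A).IsQuasicoherent := H10Coh.isQuasicoherent_unit
  exact H10Coh.isQuasicoherent_pushforward_of_isAffineHom f _

/-- Affine base change: `i^* π_* O_P = π'_* O_{P'}`. -/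
theorem isIso_bcHom [IsAffineHom π] [IsAffineHom i] (H : IsPullback h π' π i) : IsIso (bcHom H.w) := by
  haveI : IsAffineHom π' := MorphismProperty.of_isPullback (P := @IsAffineHom) H inferInstance
  refine H11Tilde.TransposeCover.isIso_transpose_of_cover i _ (isQCoh_pO π) (isQCoh_pO π') (fun _ => True)
    (fun y => ?_) fun V _ hV => ?_
  · obtain ⟨V, hV, hyV, -⟩ := exists_isAffineOpen_mem_and_subset (U := (⊤ : X.Opens)) (x := i y) trivial
    exact ⟨V, trivial, hV, hV.preimage i, hyV⟩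
  have hY : π' ⁻¹ᵁ (i ⁻¹ᵁ V) = h ⁻¹ᵁ (π ⁻¹ᵁ V) ⊓ π' ⁻¹ᵁ (i ⁻¹ᵁ V) :=
    (inf_eq_right.2 (preimage_le H.w V)).symm
  have hpo := H26Sym.isPushout_appLE H hV (hV.preimage i) (hV.preimage π) le_rfl le_rfl hY
  rw [← Scheme.Hom.app_eq_appLE i, ← Scheme.Hom.app_eq_appLE π, ← Scheme.Hom.app_eq_appLE π'] at hpo
  letI := (i.app V).hom.toAlgebra
  letI := Module.compHom Γ(pO π', i ⁻¹ᵁ V) (i.app V).hom
  haveI : IsScalarTower Γ(X, V) Γ(Y, i ⁻¹ᵁ V) Γ(pO π', i ⁻¹ᵁ V) := .of_algebraMap_smul fun _ _ => rfl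
  letI := (π.app V).hom.toAlgebra
  letI := (π'.app (i ⁻¹ᵁ V)).hom.toAlgebra
  letI := (h.appLE (π ⁻¹ᵁ V) (π' ⁻¹ᵁ (i ⁻¹ᵁ V)) (preimage_le H.w V)).hom.toAlgebra
  letI : Algebra Γ(X, V) Γ(P', π' ⁻¹ᵁ (i ⁻¹ᵁ V)) := (i.app V ≫ π'.app (i ⁻¹ᵁ V)).hom.toAlgebra
  haveI : IsScalarTower Γ(X, V) Γ(Y, i ⁻¹ᵁ V) Γ(P', π' ⁻¹ᵁ (i ⁻¹ᵁ V)) := .of_algebraMap_eq fun _ => rfl
  haveI : IsScalarTower Γ(X, V) Γ(P, π ⁻¹ᵁ V) Γ(P', π' ⁻¹ᵁ (i ⁻¹ᵁ V)) :=
    .of_algebraMap_eq fun r => congr($(hpo.w.symm) r)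
  have hA : Algebra.IsPushout Γ(X, V) Γ(Y, i ⁻¹ᵁ V) Γ(P, π ⁻¹ᵁ V) Γ(P', π' ⁻¹ᵁ (i ⁻¹ᵁ V)) :=
    CommRingCat.isPushout_iff_isPushout.mp hpo.flip
  let e : Γ(P, π ⁻¹ᵁ V) ≃ₗ[Γ(X, V)] Γ(pO π, V) :=
    { toFun := fun x => x
      invFun := fun x => x
      left_inv := fun _ => rfl
      right_inv := fun _ => rfl
      map_add' := fun _ _ => rfl
      map_smul' := fun _ _ => rfl }
  refine (Function.Bijective.of_comp_iff _ (LinearEquiv.lTensor Γ(Y, i ⁻¹ᵁ V) e).bijective).1 ?_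
  refine Eq.mpr (congrArg Function.Bijective (funext fun z => ?_)) hA.out.equiv.bijective
  induction z using TensorProduct.induction_on with
  | zero => exact (congrArg _ (map_zero _)).trans ((map_zero _).trans (map_zero hA.out.equiv).symm)
  | add a b ha hb =>
    simp only [Function.comp_apply] at ha hb ⊢
    rw [map_add (LinearEquiv.lTensor Γ(Y, i ⁻¹ᵁ V) e), map_add, map_add hA.out.equiv, ha, hb]
  | tmul b m =>
    refine Eq.trans ?_ (hA.out.equiv_tmul b m).symm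
    rw [Function.comp_apply, LinearEquiv.lTensor_tmul]
    refine (LinearMap.liftBaseChange_tmul _ _ _ _).trans ?_
    exact congrArg (fun w : Γ(pO π', i ⁻¹ᵁ V) => b • w) (bcPush_app H.w V m)

theorem appLE_congr_hom {A B : Scheme.{u}} {k₁ k₂ : A ⟶ B} (hk : k₁ = k₂) (U : B.Opens) (V : A.Opens)
    (e₁ : V ≤ k₁ ⁻¹ᵁ U) (e₂ : V ≤ k₂ ⁻¹ᵁ U) (s : Γ(B, U)) : k₁.appLE U V e₁ s = k₂.appLE U V e₂ s := by
  subst hk
  rfl

theorem appLE_appLE {A B C : Scheme.{u}} (k : A ⟶ B) (l : B ⟶ C) (kl : A ⟶ C) (hkl : k ≫ l = kl) (U : C.Opens)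
    (V : B.Opens) (W : A.Opens) (e₁ : V ≤ l ⁻¹ᵁ U) (e₂ : W ≤ k ⁻¹ᵁ V) (e₃ : W ≤ kl ⁻¹ᵁ U) (s : Γ(C, U)) :
    k.appLE V W e₂ (l.appLE U V e₁ s) = kl.appLE U W e₃ s := by
  subst hkl
  rw [← Scheme.Hom.appLE_comp_appLE k l U V W e₁ e₂]
  rfl

theorem le_of_eq_comp {A B : Scheme.{u}} {U' V' X' : Scheme.{u}} {g : U' ⟶ V'} {h' : V' ⟶ X'} {f : U' ⟶ X'}
    (hf : g ≫ h' = f) {k : A ⟶ B} {q : A ⟶ U'} {q' : B ⟶ V'} (sq : k ≫ q' = q ≫ g) (W : X'.Opens) :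
    q ⁻¹ᵁ (f ⁻¹ᵁ W) ≤ k ⁻¹ᵁ (q' ⁻¹ᵁ (h' ⁻¹ᵁ W)) := by
  subst hf
  exact preimage_le sq (h' ⁻¹ᵁ W)

/-- The transition given by a base change map, on sections. -/
theorem pushTrans_bcHom_app {A B U' V' X' : Scheme.{u}} (g : U' ⟶ V') (h' : V' ⟶ X') (f : U' ⟶ X')
    (hf : g ≫ h' = f) {k : A ⟶ B} {q : A ⟶ U'} {q' : B ⟶ V'} (sq : k ≫ q' = q ≫ g)
    (e : (Scheme.Modules.pullback g).obj (pO q') ≅ pO q) (he : e.hom = bcHom sq) (W : X'.Opens)
    (s : Γ(B, q' ⁻¹ᵁ (h' ⁻¹ᵁ W))) :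
    (H24FSch.pushTrans g h' f hf e).app W s =
      k.appLE (q' ⁻¹ᵁ (h' ⁻¹ᵁ W)) (q ⁻¹ᵁ (f ⁻¹ᵁ W)) (le_of_eq_comp hf sq W) s := by
  subst hf
  refine Eq.trans ?_ (bcPush_app sq (h' ⁻¹ᵁ W) s)
  have h1 : H24FSch.pushTrans g h' (g ≫ h') rfl e = (Scheme.Modules.pushforward h').map (bcPush sq) ≫
      (Scheme.Modules.pushforwardComp g h').hom.app (pO q) := by
    rw [H24FSch.pushTrans, he, unit_bcHom]
    refine congrArg (_ ≫ ·) ?_
    refine (congrArg ((Scheme.Modules.pushforwardComp g h').hom.app (pO q) ≫ ·) ?_).trans (Category.comp_id _)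
    refine Scheme.Modules.hom_ext _ _ fun W => ?_
    rw [Scheme.Modules.pushforwardCongr_hom_app_app]
    exact CategoryTheory.Functor.map_id _ _
  rw [h1]
  rfl

/-- Base change maps compose along transitions. -/
theorem bcPush_comp {P₀ A B U' V' X' : Scheme.{u}} (g : U' ⟶ V') (h' : V' ⟶ X') (f : U' ⟶ X')
    (hf : g ≫ h' = f) {k : A ⟶ B} {q : A ⟶ U'} {q' : B ⟶ V'} (sq : k ≫ q' = q ≫ g)
    {p : P₀ ⟶ X'} {a : A ⟶ P₀} {b : B ⟶ P₀} (sq1 : b ≫ p = q' ≫ h') (sq0 : a ≫ p = q ≫ f) (hk : k ≫ b = a)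
    (e : (Scheme.Modules.pullback g).obj (pO q') ≅ pO q) (he : e.hom = bcHom sq) :
    bcPush sq1 ≫ H24FSch.pushTrans g h' f hf e = bcPush sq0 := by
  refine Scheme.Modules.hom_ext _ _ fun V => ConcreteCategory.hom_ext _ _ fun s => ?_
  refine Eq.trans ?_ (bcPush_app sq0 V s).symm
  refine Eq.trans (congrArg ((H24FSch.pushTrans g h' f hf e).app V) (bcPush_app sq1 V s)) ?_
  refine (pushTrans_bcHom_app g h' f hf sq e he V _).trans ?_
  exact appLE_appLE k b a hk _ _ _ _ _ _ s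

/-- Base change isomorphisms are compatible with transitions. -/
theorem map_bcHom_natural {P₀ A B U' V' X' : Scheme.{u}} (g : U' ⟶ V') (h' : V' ⟶ X') (f : U' ⟶ X')
    (hf : g ≫ h' = f) {k : A ⟶ B} {q : A ⟶ U'} {q' : B ⟶ V'} (sq : k ≫ q' = q ≫ g)
    {p : P₀ ⟶ X'} {a : A ⟶ P₀} {b : B ⟶ P₀} (sq1 : b ≫ p = q' ≫ h') (sq0 : a ≫ p = q ≫ f) (hk : k ≫ b = a)
    (e : (Scheme.Modules.pullback g).obj (pO q') ≅ pO q) (he : e.hom = bcHom sq) :
    (Scheme.Modules.pushforward h').map (bcHom sq1) ≫ H24FSch.pushTrans g h' f hf e =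
      H24FSch.pushTrans g h' f hf
        ((Scheme.Modules.pullbackComp g h').app (pO p) ≪≫ (Scheme.Modules.pullbackCongr hf).app (pO p)) ≫
      (Scheme.Modules.pushforward f).map (bcHom sq0) := by
  refine H24FSch.pushTrans_natural g h' f hf _ _ _ _ ?_
  rw [bcHom, H24FSch.pushTrans_compat g h' f hf e, bcPush_comp g h' f hf sq sq1 sq0 hk e he]
  rfl

/-- Transposes of compatible maps into direct images are compatible. -/
theorem transpose_natural {U' V' X' : Scheme.{u}} (g : U' ⟶ V') (h' : V' ⟶ X') (f : U' ⟶ X')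
    (hf : g ≫ h' = f) {F : X'.Modules} (G : X'.Modules)
    (c₁ : F ⟶ (Scheme.Modules.pushforward h').obj ((Scheme.Modules.pullback h').obj G))
    (c₀ : F ⟶ (Scheme.Modules.pushforward f).obj ((Scheme.Modules.pullback f).obj G))
    (hc : c₁ ≫ H24FSch.pushTrans g h' f hf (H24FSch.stdTrans g h' f hf G) = c₀) :
    (Scheme.Modules.pullback g).map
        (((Scheme.Modules.pullbackPushforwardAdjunction h').homEquiv F _).symm c₁) ≫
        (H24FSch.stdTrans g h' f hf G).hom =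
      (H24FSch.stdTrans g h' f hf F).hom ≫
        ((Scheme.Modules.pullbackPushforwardAdjunction f).homEquiv F _).symm c₀ := by
  rw [H24FSch.pushTrans_compat g h' f hf (H24FSch.stdTrans g h' f hf G), hc]
  rfl

end Groth.Agent.H11LefFEt
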